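import Groth.Agent.H18PBC.SteinEt.Etale
import Groth.Agent.H06Conn.FlatProperFP

/-!
# The Stein factor of a proper flat morphism with geometrically reduced fibres is finite étale
-/

set_option autoImplicit false
set_option linter.style.haveILetI false
set_option linter.unusedSectionVars false
set_option backward.isDefEq.respectTransparency false

noncomputable section

universe u

open CategoryTheory CategoryTheory.Limits AlgebraicGeometry Opposite TopologicalSpace

namespace Groth.Agent.H18PBC.SteinEt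

attribute [local instance 10000] H10Coh.hasSheafifyAb H10Coh.hasWeakSheafifyAb H10Coh.hasExtAb H10Coh.enoughInjAb

variable {X S : Scheme.{u}} (f : X ⟶ S) [IsProper f] [Flat f] [LocallyOfFinitePresentation f]

/-- Over an affine open the functions form a finite étale algebra. -/
theorem finite_etale_app (hred : ∀ y : S, GRAt f y) {U : S.Opens} (hU : IsAffineOpen U) :
    (f.app U).hom.Finite ∧ (f.app U).hom.Etale := by
  letI := LeadBC.preOver f hU
  let R := Γ(S, U)
  let π' := (f ⁻¹ᵁ U).toScheme ↘ Spec (CommRingCat.of R)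
  have hsq : IsPullback (f ⁻¹ᵁ U).ι π' f hU.fromSpec :=
    (isPullback_morphismRestrict f U).flip.of_iso (Iso.refl _) (Iso.refl _) hU.isoSpec (Iso.refl _)
      (by simp) (by simp; rfl) (by simp) (by simp [hU.isoSpec_hom_fromSpec])
  haveI : IsProper π' := MorphismProperty.of_isPullback hsq ‹_›
  haveI : Flat π' := MorphismProperty.of_isPullback hsq ‹_›
  haveI : LocallyOfFinitePresentation π' := MorphismProperty.of_isPullback hsq ‹_›
  obtain ⟨A, X₀, f₀, g, hA, h₁, h₂, -, hpb⟩ := H06Conn.exists_proper_flat_model π'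
  haveI : IsNoetherianRing A := Algebra.FiniteType.isNoetherianRing ℤ A
  haveI := h₁
  haveI := h₂
  have hgr : ∀ z, GRAt f₀ ((Spec.map (CommRingCat.ofHom A.val.toRingHom)) z) := fun z =>
    grAt_of_geometricallyReduced f₀ _ ((H7Flat.GeomReduced.geometricallyReduced_fiber_baseChange hpb z).1
      (geometricallyReduced_of_grAt π' z (GRAt.of_isPullback hsq (hred _))))
  obtain ⟨hfin, het⟩ := finite_etale_functions f₀ (π' := π') hpb hgr
  have h : f.app U = CommRingCat.ofHom (gR π') ≫ (f ⁻¹ᵁ U).topIso.hom := by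
    have e : CommRingCat.ofHom (gR π') = f.app U ≫ (f ⁻¹ᵁ U).topIso.inv :=
      CommRingCat.hom_ext (LeadBC.toGlobal_preOver f hU)
    rw [e, Category.assoc, Iso.inv_hom_id, Category.comp_id]
  letI := (gR π').toAlgebra
  rw [h]
  exact ⟨RingHom.finite_respectsIso.1 _ (f ⁻¹ᵁ U).topIso.commRingCatIsoToRingEquiv (RingHom.finite_algebraMap.2 hfin),
    RingHom.Etale.respectsIso.1 _ (f ⁻¹ᵁ U).topIso.commRingCatIsoToRingEquiv (RingHom.etale_algebraMap.2 het)⟩

theorem isFinite_etale_fromNormalization (hred : ∀ y : S, GRAt f y) :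
    IsFinite f.fromNormalization ∧ Etale f.fromNormalization := by
  have key : ∀ U : S.Opens, IsAffineOpen U →
      (f.fromNormalization.app U).hom.Finite ∧ (f.fromNormalization.app U).hom.Etale := by
    intro U hU
    obtain ⟨hfin, het⟩ := finite_etale_app f hred hU
    rw [f.fromNormalization_app hU]
    letI := (f.app U).hom.toAlgebra
    have htop : integralClosure Γ(S, U) Γ(X, f ⁻¹ᵁ U) = ⊤ :=
      integralClosure_eq_top_iff.2 (@Algebra.IsIntegral.of_finite _ _ _ _ _ hfin)
    let e := ((Subalgebra.equivOfEq _ _ htop).trans Subalgebra.topEquiv).symm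
    haveI : Module.Finite Γ(S, U) (integralClosure Γ(S, U) Γ(X, f ⁻¹ᵁ U)) :=
      haveI : Module.Finite Γ(S, U) Γ(X, f ⁻¹ᵁ U) := hfin
      Module.Finite.equiv e.toLinearEquiv
    haveI : Algebra.Etale Γ(S, U) (integralClosure Γ(S, U) Γ(X, f ⁻¹ᵁ U)) :=
      haveI : Algebra.Etale Γ(S, U) Γ(X, f ⁻¹ᵁ U) := het
      Algebra.Etale.of_equiv e
    exact ⟨RingHom.finite_respectsIso.1 _ (f.normalizationObjIso hU).symm.commRingCatIsoToRingEquiv
        (RingHom.finite_algebraMap.2 inferInstance),
      RingHom.Etale.respectsIso.1 _ (f.normalizationObjIso hU).symm.commRingCatIsoToRingEquiv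
        (RingHom.etale_algebraMap.2 inferInstance)⟩
  refine ⟨(isFinite_iff _).2 ⟨inferInstance, fun U hU => (key U hU).1⟩, ?_⟩
  refine IsZariskiLocalAtTarget.of_iSup_eq_top (P := @Etale) (fun U : S.affineOpens => U.1) (iSup_affineOpens_eq_top S) fun U => ?_
  haveI : IsAffine (f.fromNormalization ⁻¹ᵁ U.1).toScheme := U.2.preimage f.fromNormalization
  haveI : IsAffine U.1.toScheme := U.2
  rw [HasRingHomProperty.iff_of_isAffine (P := @Etale), morphismRestrict_appTop]
  exact (RingHom.Etale.respectsIso.cancel_right_isIso _ _).2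
    (key _ (show IsAffineOpen (U.1.ι ''ᵁ ⊤) by rw [Scheme.Opens.ι_image_top]; exact U.2)).2

end Groth.Agent.H18PBC.SteinEt
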