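import Groth.Agent.H18PBC.SteinEt.ExactSeq
import Groth.Agent.H18PBC.SepClosedBC
import Groth.Agent.H18Et.TopInvariance
import Groth.Agent.H22Alg.VarGeom
import Groth.Agent.H17.Reduced
import Groth.Agent.H17.Topology
import Groth.Agent.H06Red.Scheme
import Groth.Agent.S0242

/-!
# Covers of a product with a proper factor are dominated by products of covers
-/

set_option autoImplicit false
set_option linter.style.haveILetI false
set_option backward.isDefEq.respectTransparency false

noncomputable section

universe u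

open CategoryTheory CategoryTheory.Limits AlgebraicGeometry TopologicalSpace

namespace Groth.Agent.H18PBC.SteinEt

theorem locallyConnectedSpace (Z : Scheme.{u}) [IsLocallyNoetherian Z] : LocallyConnectedSpace ↥Z :=
  H17.locallyConnectedSpace_of_locallyNoetherian fun x => by
    obtain ⟨U, hU, hxU, -⟩ := exists_isAffineOpen_mem_and_subset (U := (⊤ : Z.Opens)) (x := x) trivial
    haveI : IsAffine U.toScheme := hU
    haveI : IsLocallyNoetherian U.toScheme := LocallyOfFiniteType.isLocallyNoetherian U.ι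
    haveI : CompactSpace ↥U.toScheme := inferInstance
    haveI : IsNoetherian U.toScheme := {}
    exact ⟨U, U.isOpen.mem_nhds hxU, (inferInstance : NoetherianSpace ↥U.toScheme)⟩

/-- The open subscheme of a clopen set of a cover is a cover. -/
theorem finite_etale_ι {X : Scheme.{u}} (U : X.Opens) (hU : IsClosed (U : Set X)) :
    IsFinite U.ι ∧ Etale U.ι := by
  haveI : IsClosedImmersion U.ι := IsClosedImmersion.of_isPreimmersion U.ι (by rwa [Scheme.Opens.range_ι])
  exact ⟨inferInstance, inferInstance⟩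

open Pi1 in
/-- Künneth injectivity in terms of covers. -/
theorem exists_dominating_product (k : Type u) [Field k] [IsAlgClosed k] {X Y : Scheme.{u}}
    (pX : X ⟶ Spec (CommRingCat.of k)) (pY : Y ⟶ Spec (CommRingCat.of k)) [IsProper pX] [ConnectedSpace X]
    [IsLocallyNoetherian Y] [ConnectedSpace Y]
    (W : FEt.Cat (pullback pX pY)) [ConnectedSpace W.left] :
    ∃ (X' : FEt.Cat X) (Y' : FEt.Cat Y) (φ : pullback (X'.hom ≫ pX) (Y'.hom ≫ pY) ⟶ W.left),
      φ ≫ W.hom = pullback.map (X'.hom ≫ pX) (Y'.hom ≫ pY) pX pY X'.hom Y'.hom (𝟙 _)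
        (Category.comp_id _) (Category.comp_id _) ∧ Surjective φ := by
  haveI : IsFinite W.hom := W.prop.1
  haveI : Etale W.hom := W.prop.2
  haveI : GeometricallyConnected pX := H22Alg.VarGeom.geometricallyConnected_of_isSepClosed pX
  let P := pullback pX pY
  haveI : GeometricallyConnected (pullback.snd pX pY) := MorphismProperty.pullback_snd _ _ inferInstance
  haveI : IsProper (pullback.snd pX pY) := MorphismProperty.pullback_snd _ _ inferInstance
  haveI : Surjective (pullback.snd pX pY) := Spec.surjective_of_connected _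
  haveI : PreconnectedSpace ↥P := preconnectedSpace_iff_clopen.2 fun Z hZ => by
    obtain ⟨V, hV, rfl⟩ := Spec.exists_clopen_preimage _ (pullback.snd pX pY).isClosedMap
      (pullback.snd pX pY).surjective (fun b => Spec.preconnected_fibre (pullback.snd pX pY) b) Z hZ
    rcases isClopen_iff.1 hV with rfl | rfl
    · exact Or.inl Set.preimage_empty
    · exact Or.inr Set.preimage_univ
  -- `W.hom` is surjective
  haveI : Nonempty ↥((𝟭 Scheme.{u}).obj W.left) := (inferInstance : Nonempty ↥W.left)
  haveI : PreconnectedSpace ↥((Functor.fromPUnit.{0} (pullback pX pY)).obj W.right) := ‹PreconnectedSpace ↥P›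
  haveI : Surjective W.hom := ⟨Set.range_eq_univ.1 ((show IsClopen (Set.range W.hom) from
    ⟨W.hom.isClosedMap.isClosed_range, W.hom.isOpenMap.isOpen_range⟩).eq_univ (Set.range_nonempty _))⟩
  -- a geometric fibre
  obtain ⟨y₀⟩ := (inferInstance : Nonempty Y)
  let Ω := AlgebraicClosure (Y.residueField y₀)
  let η : Spec (CommRingCat.of Ω) ⟶ Y :=
    Spec.map (CommRingCat.ofHom (algebraMap (Y.residueField y₀) Ω)) ≫ Y.fromSpecResidueField y₀
  obtain ⟨φ₀, hφ₀⟩ := Spec.map_surjective (η ≫ pY)
  letI : Algebra k Ω := φ₀.hom.toAlgebra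
  let ψ : Spec (CommRingCat.of Ω) ⟶ Spec (CommRingCat.of k) := Spec.map (CommRingCat.ofHom (algebraMap k Ω))
  have hψ : ψ = η ≫ pY := hφ₀
  let b : pullback pX ψ ⟶ P := pullback.map pX ψ pX pY (𝟙 X) η (𝟙 _) (by simp) (by simp [hψ])
  haveI : (FEt.restrict (pullback.fst pX ψ)).IsEquivalence := S0242.result k Ω pX
  obtain ⟨X₀, ⟨e⟩⟩ : (FEt.restrict (pullback.fst pX ψ)).essImage ((FEt.restrict b).obj W) :=
    Functor.EssSurj.mem_essImage (F := FEt.restrict (pullback.fst pX ψ)) _
  haveI : IsFinite X₀.hom := X₀.prop.1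
  haveI : Etale X₀.hom := X₀.prop.2
  haveI : Surjective ψ := ⟨fun x => ⟨(⟨⊥, Ideal.isPrime_bot⟩ : PrimeSpectrum Ω),
    @Subsingleton.elim _ (inferInstanceAs (Subsingleton (PrimeSpectrum k))) _ x⟩⟩
  haveI : Nonempty ↥(pullback pX ψ) :=
    let ⟨z, _⟩ := (pullback.fst pX ψ).surjective (Classical.arbitrary X); ⟨z⟩
  haveI hne₀ : Nonempty ↥((FEt.restrict (pullback.fst pX ψ)).obj X₀).left := by
    obtain ⟨w, -⟩ := (pullback.snd W.hom b).surjective (Classical.arbitrary _)
    exact ⟨e.inv.left w⟩
  obtain ⟨x₀⟩ : Nonempty ↥X₀.left :=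
    ⟨pullback.fst X₀.hom (pullback.fst pX ψ) hne₀.some⟩
  -- a component of `X₀`
  haveI : IsLocallyNoetherian X := LocallyOfFiniteType.isLocallyNoetherian pX
  haveI : CompactSpace ↥X₀.left := QuasiCompact.compactSpace_of_compactSpace (X₀.hom ≫ pX)
  haveI : IsLocallyNoetherian X₀.left := haveI : IsLocallyNoetherian ((Functor.fromPUnit.{0} X).obj X₀.right) := ‹IsLocallyNoetherian X›
    LocallyOfFiniteType.isLocallyNoetherian X₀.hom
  haveI := locallyConnectedSpace X₀.left
  haveI : IsNoetherian X₀.left := {}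
  have hC : IsClopen (connectedComponent x₀) := ⟨isClosed_connectedComponent, isOpen_connectedComponent⟩
  let U : X₀.left.Opens := ⟨_, hC.isOpen⟩
  obtain ⟨hUf, hUe⟩ := finite_etale_ι U hC.isClosed
  let A : FEt.Cat X := MorphismProperty.Over.mk ⊤ (U.ι ≫ X₀.hom) ⟨inferInstance, inferInstance⟩
  haveI : IsFinite A.hom := A.prop.1
  haveI : Etale A.hom := A.prop.2
  haveI : ConnectedSpace ↥U.toScheme := Subtype.connectedSpace isConnected_connectedComponent
  obtain ⟨X₁, i, hi, hX₁, hir⟩ := H17.exists_reduced_of_isLocallyClosed (X := U.toScheme) (Z := Set.univ)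
    isOpen_univ.isLocallyClosed
  haveI := hi
  haveI := hX₁
  haveI : IsClosedImmersion i := IsClosedImmersion.of_isPreimmersion i (hir ▸ isClosed_univ)
  haveI : Surjective i := ⟨Set.range_eq_univ.1 hir⟩
  haveI : ConnectedSpace ↥X₁ := i.isClosedEmbedding.toHomeomorphOfSurjective i.surjective |>.connectedSpace_iff.2 ‹_›
  -- the family `X₁ × Y → Y`
  let u : X₁ ⟶ X := i ≫ U.ι ≫ X₀.hom
  let q : X₁ ⟶ Spec (CommRingCat.of k) := u ≫ pX
  haveI : IsProper q := inferInstanceAs (IsProper (_ ≫ _))
  haveI : GeometricallyConnected q := H22Alg.VarGeom.geometricallyConnected_of_isSepClosed q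
  haveI : GeometricallyReduced q := H06Red.geometricallyReduced_of_perfectField q
  haveI : Flat q := inferInstance
  haveI : LocallyOfFinitePresentation q := inferInstance
  let f := pullback.snd q pY
  haveI : IsProper f := MorphismProperty.pullback_snd _ _ inferInstance
  haveI : Flat f := MorphismProperty.pullback_snd _ _ inferInstance
  haveI : LocallyOfFinitePresentation f := MorphismProperty.pullback_snd _ _ inferInstance
  have hfib : ∀ (L : Type u) [Field L] [IsAlgClosed L] (t : Spec (CommRingCat.of L) ⟶ Y),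
      ConnectedSpace ↥(pullback f t) ∧ IsReduced (pullback f t) := fun L _ _ t =>
    have h := (IsPullback.of_hasPullback f t).paste_horiz (IsPullback.of_hasPullback q pY)
    ⟨GeometricallyConnected.geometrically_connectedSpace _ _ _ h,
      GeometricallyReduced.geometrically_isReduced _ _ _ h⟩
  -- the section over the geometric fibre
  let m : pullback q pY ⟶ P := pullback.map q pY pX pY u (𝟙 Y) (𝟙 _) (by simp [q]) (by simp)
  let mb : pullback f η ⟶ pullback pX ψ := pullback.lift (pullback.fst f η ≫ m ≫ pullback.fst pX pY)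
    (pullback.snd f η) (by
      rw [hψ, ← pullback.condition_assoc]
      simp only [Category.assoc, pullback.condition]
      rw [← Category.assoc m, pullback.lift_snd, Category.comp_id])
  have hmb : mb ≫ b = pullback.fst f η ≫ m := by
    apply pullback.hom_ext
    · simp [b, mb]
    · simp [b, mb, m, f, ← pullback.condition]
  let s₀ : pullback f η ⟶ ((FEt.restrict (pullback.fst pX ψ)).obj X₀).left :=
    pullback.lift (pullback.fst f η ≫ pullback.fst q pY ≫ i ≫ U.ι) mb (by simp [mb, m, u])
  let σ₁ : pullback f η ⟶ pullback W.hom m :=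
    pullback.lift (s₀ ≫ e.hom.left ≫ pullback.fst W.hom b) (pullback.fst f η) (by
      have h := Over.w e.hom.hom
      rw [Category.assoc, Category.assoc, pullback.condition, ← hmb]
      refine (congrArg (s₀ ≫ ·) ((Category.assoc _ _ _).symm.trans (congrArg (· ≫ b) h))).trans ?_
      exact (Category.assoc _ _ _).symm.trans (congrArg (· ≫ b) (pullback.lift_snd _ _ _)))
  -- the component containing it
  haveI : IsLocallyNoetherian (pullback q pY) := LocallyOfFiniteType.isLocallyNoetherian f
  haveI : IsLocallyNoetherian (pullback W.hom m) := LocallyOfFiniteType.isLocallyNoetherian (pullback.snd W.hom m)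
  haveI : ConnectedSpace ↥(pullback f η) := (hfib Ω η).1
  haveI := locallyConnectedSpace (pullback W.hom m)
  let z := σ₁ (Classical.arbitrary _)
  have hD : IsClopen (connectedComponent z) := ⟨isClosed_connectedComponent, isOpen_connectedComponent⟩
  let D : (pullback W.hom m).Opens := ⟨_, hD.isOpen⟩
  obtain ⟨hDf, hDe⟩ := finite_etale_ι D hD.isClosed
  haveI : IsFinite (pullback.snd W.hom m) := MorphismProperty.pullback_snd _ _ inferInstance
  haveI : Etale (pullback.snd W.hom m) := MorphismProperty.pullback_snd _ _ inferInstance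
  let B : FEt.Cat (pullback q pY) := MorphismProperty.Over.mk ⊤ (D.ι ≫ pullback.snd W.hom m)
    ⟨inferInstance, inferInstance⟩
  haveI : ConnectedSpace ↥B.left := Subtype.connectedSpace isConnected_connectedComponent
  have hr : Set.range σ₁ ⊆ Set.range D.ι := by
    rw [Scheme.Opens.range_ι]
    exact (isPreconnected_range σ₁.continuous).subset_connectedComponent ⟨_, rfl⟩
  let σ : pullback f η ⟶ B.left := IsOpenImmersion.lift D.ι σ₁ hr
  obtain ⟨Y', ⟨e'⟩⟩ := essImage_restrict_of_section f hfib B Ω η σ (by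
    show σ ≫ D.ι ≫ pullback.snd W.hom m = pullback.fst f η
    rw [IsOpenImmersion.lift_fac_assoc, pullback.lift_snd])
  haveI : IsFinite Y'.hom := Y'.prop.1
  haveI : Etale Y'.hom := Y'.prop.2
  -- the map on `X₁ × Y'` extends to `A × Y'`
  let R := pullback (A.hom ≫ pX) (Y'.hom ≫ pY)
  let n : R ⟶ P := pullback.map (A.hom ≫ pX) (Y'.hom ≫ pY) pX pY A.hom Y'.hom (𝟙 _)
    (Category.comp_id _) (Category.comp_id _)
  let j : ((FEt.restrict f).obj Y').left ⟶ R := pullback.lift
    (pullback.snd Y'.hom f ≫ pullback.fst q pY ≫ i) (pullback.fst Y'.hom f) (by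
      rw [pullback.condition_assoc]
      simp only [f, Category.assoc]
      rw [← pullback.condition]
      rfl)
  have hj : IsPullback j (pullback.snd Y'.hom f ≫ pullback.fst q pY) (pullback.fst _ _ : R ⟶ _) i := by
    refine IsPullback.of_right ?_ (by exact (pullback.lift_fst _ _ _).trans (Category.assoc _ _ _).symm)
      (IsPullback.of_hasPullback (A.hom ≫ pX) (Y'.hom ≫ pY)).flip
    rw [show j ≫ pullback.snd (A.hom ≫ pX) (Y'.hom ≫ pY) = pullback.fst Y'.hom f from pullback.lift_snd _ _ _]
    have h := (IsPullback.of_hasPullback Y'.hom f).paste_vert (IsPullback.of_hasPullback q pY).flip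
    refine h.of_iso (Iso.refl _) (Iso.refl _) (Iso.refl _) (Iso.refl _) ?_ ?_ ?_ ?_
    · simp
    · simp
    · simp
    · simp [q, u, A]
  haveI : IsClosedImmersion j := MorphismProperty.of_isPullback hj.flip ‹IsClosedImmersion i›
  haveI : Surjective j := MorphismProperty.of_isPullback (P := @Surjective) hj.flip ‹_›
  let φ₁ : ((FEt.restrict f).obj Y').left ⟶ W.left := e'.hom.left ≫ D.ι ≫ pullback.fst W.hom m
  have hφ₁ : φ₁ ≫ W.hom = j ≫ n := by
    have h : e'.hom.left ≫ D.ι ≫ pullback.snd W.hom m = pullback.snd Y'.hom f := Over.w e'.hom.hom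
    simp only [φ₁, Category.assoc, pullback.condition]
    rw [reassoc_of% h]
    apply pullback.hom_ext
    · simp [j, n, m, u, A]
    · simp [j, n, m, f, pullback.condition]
  haveI : Etale (pullback.snd W.hom n) := MorphismProperty.pullback_snd _ _ inferInstance
  obtain ⟨τ, hτ, -⟩ := H18Et.TopInv.exists_section (pullback.snd W.hom n) j (pullback.lift φ₁ j hφ₁)
    (pullback.lift_snd _ _ _)
  let φ := τ ≫ pullback.fst W.hom n
  have hφ : φ ≫ W.hom = n := by
    rw [Category.assoc, pullback.condition, reassoc_of% hτ]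
  refine ⟨A, Y', φ, hφ, ?_⟩
  haveI : Nonempty ↥R := ⟨j (e'.inv.left (Classical.arbitrary B.left))⟩
  haveI : IsFinite n := MorphismProperty.pullbackMap (P := @IsFinite) (i₁ := A.hom) (i₂ := Y'.hom) (f' := pX) (g' := pY) ‹IsFinite A.hom› ‹IsFinite Y'.hom› rfl rfl
  haveI : Etale n := MorphismProperty.pullbackMap (P := @Etale) (i₁ := A.hom) (i₂ := Y'.hom) (f' := pX) (g' := pY) ‹Etale A.hom› ‹Etale Y'.hom› rfl rfl
  haveI : IsFinite (φ ≫ W.hom) := by rw [hφ]; infer_instance
  haveI : Etale (φ ≫ W.hom) := by rw [hφ]; infer_instance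
  haveI : IsFinite φ := IsFinite.of_comp φ W.hom
  haveI : Etale φ := Etale.of_comp φ W.hom
  haveI : PreconnectedSpace ↥((𝟭 Scheme.{u}).obj W.left) := (inferInstance : PreconnectedSpace ↥W.left)
  exact ⟨Set.range_eq_univ.1 ((show IsClopen (Set.range φ) from
    ⟨φ.isClosedMap.isClosed_range, φ.isOpenMap.isOpen_range⟩).eq_univ (Set.range_nonempty _))⟩

end Groth.Agent.H18PBC.SteinEt
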