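import Groth.Agent.LeadBC.GenBC.AppIso

/-!
# Functions commute with base change where `H⁰` is right exact
-/

set_option autoImplicit false
set_option linter.style.haveILetI false
set_option linter.unusedSectionVars false
set_option backward.isDefEq.respectTransparency false

universe u

open CategoryTheory CategoryTheory.Limits AlgebraicGeometry Opposite TopologicalSpace
open scoped TensorProduct

namespace Groth.Agent.H18PBC.SteinEt

open Groth.Agent.H10Coh Groth.Agent.LeadBC Groth.Agent.LeadBC.GenBC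

attribute [local instance 10000] hasSheafifyAb hasWeakSheafifyAb hasExtAb enoughInjAb

variable {X S : Scheme.{u}} (f : X ⟶ S) [IsProper f]
variable {X' S' : Scheme.{u}} {g : S' ⟶ S} {g' : X' ⟶ X} {f' : X' ⟶ S'} (h : IsPullback g' f' f g)

/-- The degree zero base change map on a pure tensor. -/
theorem exists_lift_tmul {V : S.Opens} {W : S'.Opens} (hle : W ≤ g ⁻¹ᵁ V) :
    letI := (g.appLE V W hle).hom.toAlgebra
    letI := Module.compHom Γ((Scheme.Modules.pushforward f').obj ((Scheme.Modules.pullback g').obj (Coh.structureModule X)), W)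
      (g.appLE V W hle).hom
    haveI : IsScalarTower Γ(S, V) Γ(S', W)
        Γ((Scheme.Modules.pushforward f').obj ((Scheme.Modules.pullback g').obj (Coh.structureModule X)), W) :=
      .of_algebraMap_smul fun _ _ => rfl
    ∃ E : Γ(X', f' ⁻¹ᵁ W) →+
        Γ((Scheme.Modules.pushforward f').obj ((Scheme.Modules.pullback g').obj (Coh.structureModule X)), W),
      Function.Bijective E ∧ ∀ (r : Γ(S', W)) (b : Γ(X, f ⁻¹ᵁ V)),
        LinearMap.liftBaseChange Γ(S', W) (FBC.locLin g (τ₀ f (Coh.structureModule X) h) hle)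
          (r ⊗ₜ[Γ(S, V)] (show Γ((Scheme.Modules.pushforward f).obj (Coh.structureModule X), V) from b)) =
          E (f'.app W r * g'.appLE (f ⁻¹ᵁ V) (f' ⁻¹ᵁ W) (preimage_le f h hle) b) := by
  letI := (g.appLE V W hle).hom.toAlgebra
  letI := Module.compHom Γ((Scheme.Modules.pushforward f').obj ((Scheme.Modules.pullback g').obj (Coh.structureModule X)), W)
    (g.appLE V W hle).hom
  haveI : IsScalarTower Γ(S, V) Γ(S', W)
      Γ((Scheme.Modules.pushforward f').obj ((Scheme.Modules.pullback g').obj (Coh.structureModule X)), W) :=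
    .of_algebraMap_smul fun _ _ => rfl
  let M' := (Scheme.Modules.pullback g').obj (Coh.structureModule X)
  let e : Γ(M', f' ⁻¹ᵁ W) :=
    rs M' (preimage_le f h hle) (OmegaSh.pullSect g' (Coh.structureModule X) (f ⁻¹ᵁ V) (H11Ample.one (f ⁻¹ᵁ V)))
  refine ⟨AddMonoidHom.mk' (fun z : Γ(X', f' ⁻¹ᵁ W) => z • e) (fun a b => add_smul a b e),
    ((H11Ample.isGen_one (f ⁻¹ᵁ V)).pullSect g').bijective (preimage_le f h hle), fun r b => ?_⟩
  rw [LinearMap.liftBaseChange_tmul]
  show f'.app W r • (show Γ(M', f' ⁻¹ᵁ W) from rs ((Scheme.Modules.pushforward f').obj M') hle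
      ((τ₀ f (Coh.structureModule X) h).app V b)) =
    (f'.app W r * g'.appLE (f ⁻¹ᵁ V) (f' ⁻¹ᵁ W) (preimage_le f h hle) b) • e
  rw [mul_smul]
  refine congrArg (f'.app W r • ·) ?_
  rw [FBC.τPush_app]
  refine (rs_rs M' (FBC.preimage_swap h V).le ((Opens.map f'.base).monotone hle) _).trans ?_
  refine ((congrArg (fun z => rs M' (preimage_le f h hle)
      (OmegaSh.pullSect g' (Coh.structureModule X) (f ⁻¹ᵁ V) z)) (H11Ample.smul_one_eq b).symm).trans
    ((congrArg (rs M' (preimage_le f h hle)) (OmegaSh.pullSect_smul g' (Coh.structureModule X) _ b _)).trans ?_))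
  exact Scheme.Modules.map_smul M' (homOfLE (preimage_le f h hle)) _ _

variable [Flat f] [LocallyOfFinitePresentation f]

/-- A point where the functions surject onto those of a field valued fibre has a neighbourhood of
right exactness. -/
theorem exists_epiOn_of_surjective {Y : Scheme.{u}} {K : Type u} [Field K] {t : Spec (CommRingCat.of K) ⟶ S}
    {t' : Y ⟶ X} {f₁ : Y ⟶ Spec (CommRingCat.of K)} (hsq : IsPullback t' f₁ f t) (s : S) (hg : ∀ z, t z = s)
    {V : S.Opens} (hV : IsAffineOpen V) (hle : (⊤ : (Spec (CommRingCat.of K)).Opens) ≤ t ⁻¹ᵁ V)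
    (hK : ∀ σ : Γ(Y, f₁ ⁻¹ᵁ ⊤), σ ∈ AddSubmonoid.closure (Set.range fun p : Γ(Spec (CommRingCat.of K), ⊤) × Γ(X, f ⁻¹ᵁ V) =>
      f₁.app ⊤ p.1 * t'.appLE (f ⁻¹ᵁ V) (f₁ ⁻¹ᵁ ⊤) (preimage_le f hsq hle) p.2)) :
    ∃ (W : S.Opens) (hW : IsAffineOpen W), s ∈ W ∧ EpiOn f (Coh.structureModule X) hW 0 := by
  haveI : (Coh.structureModule X).IsQuasicoherent := isQuasicoherent_unit
  haveI : Subsingleton (Spec (CommRingCat.of K)) := inferInstanceAs (Subsingleton (PrimeSpectrum K))
  haveI : Nonempty (Spec (CommRingCat.of K)) := inferInstanceAs (Nonempty (PrimeSpectrum K))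
  refine exists_epiOn_of_epi_zero f _ H06EGA9.isFP_structureModule (isFlatOver_structure f) hsq s hg
    ((epi_iff_surjective_top _).2 ?_)
  obtain ⟨c, -, hc⟩ := exists_transpose_app t (H10Coh.isQuasicoherent_pushforward f (Coh.structureModule X))
    (τ₀ f (Coh.structureModule X) hsq) hV (isAffineOpen_top _) hle
  obtain ⟨E, hE, hEr⟩ := exists_lift_tmul f hsq hle
  intro y
  obtain ⟨m, rfl⟩ := hE.2 y
  induction hK m using AddSubmonoid.closure_induction with
  | mem x hx =>
    obtain ⟨⟨r, b⟩, rfl⟩ := hx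
    exact ⟨_, (congrFun hc _).symm.trans (hEr r b)⟩
  | zero => exact ⟨0, (map_zero _).trans (map_zero E).symm⟩
  | add a b _ _ ha hb =>
    obtain ⟨u, hu⟩ := ha
    obtain ⟨v, hv⟩ := hb
    exact ⟨u + v, (map_add _ u v).trans ((congrArg₂ (· + ·) hu hv).trans (map_add E a b).symm)⟩

include h in
/-- Functions commute with base change over the locus of right exactness. -/
theorem isPushout_sections (hT : ∀ z : S', ∃ (W : S.Opens) (hW : IsAffineOpen W), g z ∈ W ∧
      EpiOn f (Coh.structureModule X) hW 0)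
    {V : S.Opens} (hV : IsAffineOpen V) {W : S'.Opens} (hW : IsAffineOpen W) (hle : W ≤ g ⁻¹ᵁ V) :
    IsPushout (g.appLE V W hle) (f.app V) (f'.app W) (g'.appLE (f ⁻¹ᵁ V) (f' ⁻¹ᵁ W) (preimage_le f h hle)) := by
  haveI : (Coh.structureModule X).IsQuasicoherent := isQuasicoherent_unit
  letI := (g.appLE V W hle).hom.toAlgebra
  letI := (f.app V).hom.toAlgebra
  letI := Module.compHom Γ((Scheme.Modules.pushforward f').obj ((Scheme.Modules.pullback g').obj (Coh.structureModule X)), W)
    (g.appLE V W hle).hom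
  haveI : IsScalarTower Γ(S, V) Γ(S', W)
      Γ((Scheme.Modules.pushforward f').obj ((Scheme.Modules.pullback g').obj (Coh.structureModule X)), W) :=
    .of_algebraMap_smul fun _ _ => rfl
  obtain ⟨E, hE, hEr⟩ := exists_lift_tmul f h hle
  obtain ⟨c, hc, hcf⟩ := exists_transpose_app g (H10Coh.isQuasicoherent_pushforward f (Coh.structureModule X))
    (τ₀ f (Coh.structureModule X) h) hV hW hle
  haveI := isIso_bc_zero f (Coh.structureModule X) h H06EGA9.isFP_structureModule (isFlatOver_structure f) hT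
  have hb : Function.Bijective (LinearMap.liftBaseChange Γ(S', W)
      (FBC.locLin g (τ₀ f (Coh.structureModule X) h) hle)) := by
    rw [hcf]
    exact (ConcreteCategory.bijective_of_isIso _).comp hc
  have hcomm : g.appLE V W hle ≫ f'.app W = f.app V ≫ g'.appLE (f ⁻¹ᵁ V) (f' ⁻¹ᵁ W) (preimage_le f h hle) := by
    rw [Scheme.Hom.app_eq_appLE, Scheme.Hom.app_eq_appLE, Scheme.Hom.appLE_comp_appLE, Scheme.Hom.appLE_comp_appLE]
    simp only [h.w]
  letI : Algebra Γ(S, V) Γ(X', f' ⁻¹ᵁ W) := (g.appLE V W hle ≫ f'.app W).hom.toAlgebra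
  let a₁ : Γ(S', W) →ₐ[Γ(S, V)] Γ(X', f' ⁻¹ᵁ W) := { (f'.app W).hom with commutes' := fun _ => rfl }
  let a₂ : Γ(X, f ⁻¹ᵁ V) →ₐ[Γ(S, V)] Γ(X', f' ⁻¹ᵁ W) :=
    { (g'.appLE (f ⁻¹ᵁ V) (f' ⁻¹ᵁ W) (preimage_le f h hle)).hom with
      commutes' := fun a => (congr($hcomm a)).symm }
  let φ := Algebra.TensorProduct.productMap a₁ a₂
  have key : ∀ z, LinearMap.liftBaseChange Γ(S', W) (FBC.locLin g (τ₀ f (Coh.structureModule X) h) hle) z =
      E (φ z) := by
    intro z
    induction z using TensorProduct.induction_on with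
    | zero => rw [map_zero]; exact ((congrArg E (map_zero φ)).trans (map_zero E)).symm
    | add a b ha hb' =>
      rw [map_add, ha, hb']
      exact ((congrArg E (map_add φ a b)).trans (map_add E _ _)).symm
    | tmul r b => exact (hEr r b).trans (congrArg E (Algebra.TensorProduct.productMap_apply_tmul a₁ a₂ r b).symm)
  have hφ : Function.Bijective φ :=
    (Function.Bijective.of_comp_iff' hE _).1 (Eq.mpr (congrArg Function.Bijective (funext fun z => (key z).symm)) hb)
  refine (CommRingCat.isPushout_tensorProduct Γ(S, V) Γ(S', W) Γ(X, f ⁻¹ᵁ V)).of_iso (Iso.refl _) (Iso.refl _)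
    (Iso.refl _) (RingEquiv.ofBijective φ hφ).toCommRingCatIso ?_ ?_ ?_ ?_
  · simp; rfl
  · simp; rfl
  · ext r
    show φ (r ⊗ₜ 1) = f'.app W r
    rw [Algebra.TensorProduct.productMap_apply_tmul]
    exact (congrArg (a₁ r * ·) (map_one a₂)).trans (mul_one _)
  · ext b
    show φ (1 ⊗ₜ b) = g'.appLE (f ⁻¹ᵁ V) (f' ⁻¹ᵁ W) (preimage_le f h hle) b
    rw [Algebra.TensorProduct.productMap_apply_tmul]
    exact (congrArg (· * a₂ b) (map_one a₁)).trans (one_mul _)

end Groth.Agent.H18PBC.SteinEt
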