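import Groth.Agent.H18PBC.SteinEt.Kunneth
import Groth.Agent.H18Et.GalExact
import Groth.Agent.H18Et.FEtFibre
import Groth.Agent.H18Et.FEtLimit

/-!
# Covers of a product with a proper factor form constant families
-/

set_option autoImplicit false
set_option linter.style.haveILetI false
set_option linter.unusedSectionVars false
set_option backward.isDefEq.respectTransparency false

noncomputable section

universe u

open CategoryTheory CategoryTheory.Limits AlgebraicGeometry TopologicalSpace CategoryTheory.PreGaloisCategory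
open scoped FintypeCatDiscrete

namespace Groth.Agent.H18PBC.SteinEt

open H18Et

/-- Points of a restricted cover. -/
def ptsEquiv {X P : Scheme.{u}} {Ω : Type u} [Field Ω] (ξ : Spec (CommRingCat.of Ω) ⟶ X) (j : X ⟶ P) (Z : FEt.Cat P) :
    FEt.fiberObj ξ ((FEt.restrict j).obj Z) ≃ FEt.fiberObj (ξ ≫ j) Z where
  toFun s := ⟨s.1 ≫ pullback.fst Z.hom j, (Category.assoc _ _ _).trans
    ((congrArg (s.1 ≫ ·) pullback.condition).trans ((Category.assoc _ _ _).symm.trans (congrArg (· ≫ j) s.2)))⟩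
  invFun t := ⟨pullback.lift t.1 ξ t.2, pullback.lift_snd _ _ _⟩
  left_inv s := Subtype.ext (pullback.hom_ext (pullback.lift_fst _ _ _) ((pullback.lift_snd _ _ _).trans s.2.symm))
  right_inv t := Subtype.ext (pullback.lift_fst _ _ _)

theorem ptsEquiv_natural {X P : Scheme.{u}} {Ω : Type u} [Field Ω] (ξ : Spec (CommRingCat.of Ω) ⟶ X) (j : X ⟶ P)
    {Z Z' : FEt.Cat P} (f : Z ⟶ Z') (s : FEt.fiberObj ξ ((FEt.restrict j).obj Z)) :
    ptsEquiv ξ j Z' ((FEt.fiber ξ).map ((FEt.restrict j).map f) s) = (FEt.fiber (ξ ≫ j)).map f (ptsEquiv ξ j Z s) :=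
  Subtype.ext ((Category.assoc _ _ _).trans
    ((congrArg (s.1 ≫ ·) (pullback.lift_fst _ _ _)).trans (Category.assoc _ _ _).symm))

section Trivial

variable {k : Type u} [Field k] [IsAlgClosed k] {X Y : Scheme.{u}} (pX : X ⟶ Spec (CommRingCat.of k))
  (y : Spec (CommRingCat.of k) ⟶ Y) (B : FEt.Cat Y) {Ω : Type u} [Field Ω]

/-- A point of a cover over a rational point is rational. -/
theorem exists_rational_point (ξ : Spec (CommRingCat.of Ω) ⟶ X) (t : Spec (CommRingCat.of Ω) ⟶ B.left)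
    (ht : t ≫ B.hom = ξ ≫ pX ≫ y) :
    ∃ b : Spec (CommRingCat.of k) ⟶ B.left, b ≫ B.hom = y ∧ t = ξ ≫ pX ≫ b := by
  let B₀ := (FEt.restrict y).obj B
  let v : Spec (CommRingCat.of Ω) ⟶ B₀.left := pullback.lift t (ξ ≫ pX) (by rw [ht, Category.assoc])
  obtain ⟨s, hs⟩ := FEtGalois.surjective_base B₀ (v default)
  haveI := FEtGalois.isOpenImmersion_pt B₀ s
  have hr : Set.range v ⊆ Set.range s.1 := by
    rintro _ ⟨a, rfl⟩
    exact ⟨default, hs.trans (congrArg v (@Subsingleton.elim _ (inferInstanceAs (Subsingleton (PrimeSpectrum Ω))) default a))⟩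
  have hv := IsOpenImmersion.lift_fac s.1 v hr
  have hl : IsOpenImmersion.lift s.1 v hr = ξ ≫ pX := by
    have := congrArg (· ≫ B₀.hom) hv
    simp only [Category.assoc, s.2, Category.comp_id] at this
    exact this.trans (pullback.lift_snd _ _ _)
  refine ⟨s.1 ≫ pullback.fst B.hom y, ?_, ?_⟩
  · rw [Category.assoc, pullback.condition, ← Category.assoc]
    exact (congrArg (· ≫ y) s.2).trans (Category.id_comp _)
  · rw [hl] at hv
    refine Eq.trans ?_ ((congrArg (· ≫ pullback.fst B.hom y) hv).symm.trans ?_)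
    · exact (pullback.lift_fst _ _ _).symm
    · exact (Category.assoc _ _ _).trans (Category.assoc _ _ _)

end Trivial

/-- Hypothesis: connected covers of the product are dominated by products. -/
def Dominated {k : Type u} [Field k] {X Y : Scheme.{u}} (pX : X ⟶ Spec (CommRingCat.of k))
    (pY : Y ⟶ Spec (CommRingCat.of k)) : Prop :=
  ∀ (W : FEt.Cat (pullback pX pY)), ConnectedSpace W.left →
    ∃ (X' : FEt.Cat X) (Y' : FEt.Cat Y) (φ : pullback (X'.hom ≫ pX) (Y'.hom ≫ pY) ⟶ W.left),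
      φ ≫ W.hom = pullback.map (X'.hom ≫ pX) (Y'.hom ≫ pY) pX pY X'.hom Y'.hom (𝟙 _)
        (Category.comp_id _) (Category.comp_id _) ∧ Surjective φ

theorem dominated_left {k : Type u} [Field k] [IsAlgClosed k] {X Y : Scheme.{u}}
    (pX : X ⟶ Spec (CommRingCat.of k)) (pY : Y ⟶ Spec (CommRingCat.of k)) [IsProper pX] [ConnectedSpace X]
    [IsLocallyNoetherian Y] [ConnectedSpace Y] : Dominated pX pY := fun W hW =>
  haveI := hW
  exists_dominating_product k pX pY W

theorem dominated_right {k : Type u} [Field k] [IsAlgClosed k] {X Y : Scheme.{u}}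
    (pX : X ⟶ Spec (CommRingCat.of k)) (pY : Y ⟶ Spec (CommRingCat.of k)) [IsProper pY] [ConnectedSpace X]
    [IsLocallyNoetherian X] [ConnectedSpace Y] : Dominated pX pY := fun W hW => by
  let e := pullbackSymmetry pX pY
  haveI : IsFinite W.hom := W.prop.1
  haveI : Etale W.hom := W.prop.2
  let W' : FEt.Cat (pullback pY pX) := MorphismProperty.Over.mk ⊤ (W.hom ≫ e.hom) ⟨inferInstance, inferInstance⟩
  haveI : ConnectedSpace ↥W'.left := hW
  obtain ⟨B, A, φ, hφ, hs⟩ := exists_dominating_product k pY pX W'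
  refine ⟨A, B, (pullbackSymmetry _ _).hom ≫ φ, ?_, inferInstance⟩
  have h2 : φ ≫ W.hom ≫ e.hom = _ := hφ
  rw [← cancel_mono e.hom, Category.assoc, Category.assoc, h2]
  apply pullback.hom_ext <;> simp [e]

section Connected

variable {k : Type u} [Field k] [IsAlgClosed k] {X Y : Scheme.{u}} (pX : X ⟶ Spec (CommRingCat.of k))
  (pY : Y ⟶ Spec (CommRingCat.of k)) [ConnectedSpace X]

theorem nonempty_iso_of_dominated [ConnectedSpace ↥(pullback pX pY)] [LocallyConnectedSpace ↥(pullback pX pY)]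
    (hloc : ∀ Z : FEt.Cat (pullback pX pY), LocallyConnectedSpace Z.left)
    (hD : Dominated pX pY) (Z' : FEt.Cat (pullback pX pY))
    (y y' : Spec (CommRingCat.of k) ⟶ Y) (hy : 𝟙 X ≫ pX = (pX ≫ y) ≫ pY) (hy' : 𝟙 X ≫ pX = (pX ≫ y') ≫ pY) :
    Nonempty ((FEt.restrict (pullback.lift (𝟙 X) (pX ≫ y) hy)).obj Z' ≅
      (FEt.restrict (pullback.lift (𝟙 X) (pX ≫ y') hy')).obj Z') := by
  classical
  obtain ⟨x₀⟩ := (inferInstance : Nonempty X)
  let Ω := AlgebraicClosure (X.residueField x₀)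
  let ξ : Spec (CommRingCat.of Ω) ⟶ X :=
    Spec.map (CommRingCat.ofHom (algebraMap (X.residueField x₀) Ω)) ≫ X.fromSpecResidueField x₀
  let j := pullback.lift (f := pX) (g := pY) (𝟙 X) (pX ≫ y) hy
  let j' := pullback.lift (f := pX) (g := pY) (𝟙 X) (pX ≫ y') hy'
  letI := FEtFibre.galoisCategory ξ
  letI := FEtFibre.galoisCategory (ξ ≫ j)
  haveI := FEtGalois.fiberFunctor ξ
  obtain ⟨α⟩ := FEtFibre.nonempty_fiber_iso (ξ ≫ j) (ξ ≫ j')
  let F := FEtGalois.fibF ξ
  -- transport `γ` along `α`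
  let T : ∀ Z : FEt.Cat (pullback pX pY), FEt.fiberObj ξ ((FEt.restrict j).obj Z) ≃ FEt.fiberObj ξ ((FEt.restrict j').obj Z) :=
    fun Z => (ptsEquiv ξ j Z).trans (((α.app Z).toEquiv).trans (ptsEquiv ξ j' Z).symm)
  have hT : ∀ {Z₁ Z₂ : FEt.Cat (pullback pX pY)} (f : Z₁ ⟶ Z₂) (s : FEt.fiberObj ξ ((FEt.restrict j).obj Z₁)),
      T Z₂ ((FEt.fiber ξ).map ((FEt.restrict j).map f) s) = (FEt.fiber ξ).map ((FEt.restrict j').map f) (T Z₁ s) := by
    intro Z₁ Z₂ f s
    apply (ptsEquiv ξ j' Z₂).injective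
    rw [ptsEquiv_natural]
    show ptsEquiv ξ j' Z₂ ((ptsEquiv ξ j' Z₂).symm _) = (FEt.fiber (ξ ≫ j')).map f (ptsEquiv ξ j' Z₁ ((ptsEquiv ξ j' Z₁).symm _))
    rw [Equiv.apply_symm_apply, Equiv.apply_symm_apply, ptsEquiv_natural]
    exact congr($(α.hom.naturality f) (ptsEquiv ξ j Z₁ s))
  -- the pullback of covers of the first factor
  let Pr := FEt.restrict (pullback.fst pX pY)
  have hj : j ≫ pullback.fst pX pY = 𝟙 X := pullback.lift_fst _ _ _
  have hj' : j' ≫ pullback.fst pX pY = 𝟙 X := pullback.lift_fst _ _ _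
  let c : ∀ (i : X ⟶ pullback pX pY) (_ : i ≫ pullback.fst pX pY = 𝟙 X) (A : FEt.Cat X),
      FEt.fiberObj ξ ((FEt.restrict i).obj (Pr.obj A)) ≃ FEt.fiberObj ξ A := fun i hi A =>
    (ptsEquiv ξ i (Pr.obj A)).trans ((ptsEquiv (ξ ≫ i) (pullback.fst pX pY) A).trans
      (Equiv.subtypeEquivRight fun w => by rw [Category.assoc, hi, Category.comp_id]))
  have cval : ∀ (i : X ⟶ pullback pX pY) (hi : i ≫ pullback.fst pX pY = 𝟙 X) (A : FEt.Cat X) (s),
      (c i hi A s).1 = (s.1 ≫ pullback.fst (Pr.obj A).hom i) ≫ pullback.fst A.hom (pullback.fst pX pY) :=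
    fun _ _ _ _ => rfl
  have cnat : ∀ (i : X ⟶ pullback pX pY) (hi : i ≫ pullback.fst pX pY = 𝟙 X) {A A' : FEt.Cat X} (f : A ⟶ A') (s),
      c i hi A' ((FEt.fiber ξ).map ((FEt.restrict i).map (Pr.map f)) s) = (FEt.fiber ξ).map f (c i hi A s) := by
    intro i hi A A' f s
    refine Subtype.ext ?_
    show _ = (c i hi A s).1 ≫ f.left
    rw [cval i hi, cval i hi]
    show ((s.1 ≫ ((FEt.restrict i).map (Pr.map f)).left) ≫ pullback.fst _ _) ≫ _ = _
    erw [Category.assoc s.1, pullback.lift_fst]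
    simp only [Category.assoc]
    congr 2
    exact pullback.lift_fst _ _ _
  let β₀ : ∀ A, FEt.fiberObj ξ A ≃ FEt.fiberObj ξ A := fun A =>
    (c j hj A).symm.trans ((T (Pr.obj A)).trans (c j' hj' A))
  let β : Aut F := NatIso.ofComponents (fun A => FintypeCat.equivEquivIso (β₀ A)) fun {A A'} f => by
    ext s
    show β₀ A' ((FEt.fiber ξ).map f s) = (FEt.fiber ξ).map f (β₀ A s)
    obtain ⟨t, rfl⟩ := (c j hj A).surjective s
    show c j' hj' A' (T _ ((c j hj A').symm _)) = (FEt.fiber ξ).map f (c j' hj' A (T _ ((c j hj A).symm (c j hj A t))))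
    rw [Equiv.symm_apply_apply, ← cnat j hj f t, Equiv.symm_apply_apply, hT, cnat j' hj' f]
  -- the corrected bijection
  let Φ : ∀ Z : FEt.Cat (pullback pX pY), F.obj ((FEt.restrict j).obj Z) → F.obj ((FEt.restrict j').obj Z) :=
    fun Z s => T Z (β⁻¹ • s)
  have hΦ : ∀ {Z₁ Z₂ : FEt.Cat (pullback pX pY)} (f : Z₁ ⟶ Z₂) (s : F.obj ((FEt.restrict j).obj Z₁)),
      Φ Z₂ (F.map ((FEt.restrict j).map f) s) = F.map ((FEt.restrict j').map f) (Φ Z₁ s) := by
    intro Z₁ Z₂ f s
    show T Z₂ (β⁻¹ • F.map ((FEt.restrict j).map f) s) = _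
    rw [GalExact.smul_map]
    exact hT f _
  have hcsmul : ∀ (i : X ⟶ pullback pX pY) (hi : i ≫ pullback.fst pX pY = 𝟙 X) (A : FEt.Cat X) (τ : Aut F)
      (t : F.obj ((FEt.restrict i).obj (Pr.obj A))), c i hi A (τ • t) = τ • (show F.obj A from c i hi A t) := by
    intro i hi A τ t
    let κ : (FEt.restrict i).obj (Pr.obj A) ⟶ A := MorphismProperty.Over.homMk
      (pullback.fst (Pr.obj A).hom i ≫ pullback.fst A.hom (pullback.fst pX pY)) (by
        show (_ ≫ _) ≫ A.hom = pullback.snd (Pr.obj A).hom i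
        rw [Category.assoc, pullback.condition, ← Category.assoc]
        show (pullback.fst (Pr.obj A).hom i ≫ (Pr.obj A).hom) ≫ _ = _
        rw [pullback.condition, Category.assoc, hi, Category.comp_id]) trivial
    have hκ : ∀ t, c i hi A t = (FEt.fiber ξ).map κ t := fun t =>
      Subtype.ext ((cval i hi A t).trans (Category.assoc _ _ _))
    rw [hκ, hκ]
    exact (GalExact.smul_map F τ κ t).symm
  have hfirst : ∀ (A : FEt.Cat X) (s : F.obj ((FEt.restrict j).obj (Pr.obj A))),
      c j' hj' A (Φ _ s) = c j hj A s := by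
    intro A s
    have hnat : c j hj A (β⁻¹ • s) = β⁻¹ • (show F.obj A from c j hj A s) := hcsmul j hj A β⁻¹ s
    have hβ : ∀ t, c j' hj' A (T _ t) = β • (show F.obj A from c j hj A t) := fun t => by
      show _ = c j' hj' A (T _ ((c j hj A).symm (c j hj A t)))
      rw [Equiv.symm_apply_apply]
    show c j' hj' A (T _ (β⁻¹ • s)) = _
    rw [hβ, hnat, smul_inv_smul]
  -- points over rational points are fixed
  have hfix : ∀ (y₁ : Spec (CommRingCat.of k) ⟶ Y) (i : X ⟶ pullback pX pY) (_ : i ≫ pullback.snd pX pY = pX ≫ y₁)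
      (B : FEt.Cat Y) (τ : Aut F) (s : F.obj ((FEt.restrict i).obj ((FEt.restrict (pullback.snd pX pY)).obj B))),
      τ • s = s := by
    intro y₁ i hi B τ s
    let B' := (FEt.restrict (pullback.snd pX pY)).obj B
    obtain ⟨b, hb, hb'⟩ := exists_rational_point pX y₁ B ξ
      (s.1 ≫ pullback.fst B'.hom i ≫ pullback.fst B.hom (pullback.snd pX pY)) (by
        simp only [Category.assoc]
        rw [pullback.condition, ← Category.assoc (pullback.fst B'.hom i)]
        show s.1 ≫ (pullback.fst B'.hom i ≫ B'.hom) ≫ _ = _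
        rw [pullback.condition, Category.assoc, hi, ← Category.assoc s.1]
        exact congrArg (· ≫ pX ≫ y₁) s.2)
    let g₀ : X ⟶ B'.left := pullback.lift (pX ≫ b) i (by rw [Category.assoc, hb, hi])
    let T₁ : FEt.Cat X := MorphismProperty.Over.mk ⊤ (𝟙 X) ⟨inferInstance, inferInstance⟩
    let g : T₁ ⟶ (FEt.restrict i).obj B' := MorphismProperty.Over.homMk
      (pullback.lift g₀ (𝟙 X) ((pullback.lift_snd _ _ _).trans (Category.id_comp i).symm)) (pullback.lift_snd _ _ _) trivial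
    let t₁ : F.obj T₁ := ⟨ξ, Category.comp_id _⟩
    have hs : F.map g t₁ = s := by
      refine Subtype.ext ?_
      show ξ ≫ pullback.lift g₀ (𝟙 X) _ = s.1
      apply pullback.hom_ext
      · rw [Category.assoc, pullback.lift_fst]
        apply pullback.hom_ext
        · rw [Category.assoc, pullback.lift_fst]
          exact hb'.symm.trans (Category.assoc _ _ _).symm
        · rw [Category.assoc, pullback.lift_snd, Category.assoc]
          show ξ ≫ i = s.1 ≫ pullback.fst B'.hom i ≫ B'.hom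
          rw [pullback.condition, ← Category.assoc]
          exact congrArg (· ≫ i) s.2.symm
      · rw [Category.assoc, pullback.lift_snd, Category.comp_id]
        exact s.2.symm
    rw [← hs, GalExact.smul_map]
    exact congrArg _ (Subtype.ext (((Category.comp_id _).symm.trans (τ • t₁).2).trans ((Category.comp_id _).symm.trans t₁.2).symm))
  -- equivariance
  have key : ∀ (τ : Aut F) (s : F.obj ((FEt.restrict j).obj Z')), Φ Z' (τ • s) = τ • Φ Z' s := by
    intro τ s
    let w : Spec (CommRingCat.of Ω) ⟶ Z'.left := s.1 ≫ pullback.fst Z'.hom j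
    haveI := hloc Z'
    let z : Z'.left := w default
    have hC : IsClopen (connectedComponent z) := ⟨isClosed_connectedComponent, isOpen_connectedComponent⟩
    let U : Z'.left.Opens := ⟨_, hC.isOpen⟩
    obtain ⟨hUf, hUe⟩ := finite_etale_ι U hC.isClosed
    haveI : IsFinite Z'.hom := Z'.prop.1
    haveI : Etale Z'.hom := Z'.prop.2
    let W : FEt.Cat (pullback pX pY) := MorphismProperty.Over.mk ⊤ (U.ι ≫ Z'.hom) ⟨inferInstance, inferInstance⟩
    obtain ⟨A, B, φ, hφ, hsurj⟩ := hD W (Subtype.connectedSpace isConnected_connectedComponent)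
    haveI : IsFinite A.hom := A.prop.1
    haveI : Etale A.hom := A.prop.2
    haveI : IsFinite B.hom := B.prop.1
    haveI : Etale B.hom := B.prop.2
    let n := pullback.map (A.hom ≫ pX) (B.hom ≫ pY) pX pY A.hom B.hom (𝟙 _) (Category.comp_id _) (Category.comp_id _)
    let R : FEt.Cat (pullback pX pY) := MorphismProperty.Over.mk ⊤ n
      ⟨MorphismProperty.pullbackMap (P := @IsFinite) (i₁ := A.hom) (i₂ := B.hom) (f' := pX) (g' := pY) ‹IsFinite A.hom› ‹IsFinite B.hom› rfl rfl,
        MorphismProperty.pullbackMap (P := @Etale) (i₁ := A.hom) (i₂ := B.hom) (f' := pX) (g' := pY) ‹Etale A.hom› ‹Etale B.hom› rfl rfl⟩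
    let q : R ⟶ Z' := MorphismProperty.Over.homMk (φ ≫ U.ι) ((Category.assoc _ _ _).trans hφ) trivial
    -- lift the point
    have hw : Set.range w ⊆ Set.range U.ι := by
      rintro _ ⟨a, rfl⟩
      rw [Scheme.Opens.range_ι, @Subsingleton.elim _ (inferInstanceAs (Subsingleton (PrimeSpectrum Ω))) a default]
      exact mem_connectedComponent
    let w₁ := IsOpenImmersion.lift U.ι w hw
    haveI : IsFinite (φ ≫ W.hom) := by rw [hφ]; exact R.prop.1
    haveI : Etale (φ ≫ W.hom) := by rw [hφ]; exact R.prop.2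
    haveI : IsFinite W.hom := W.prop.1
    haveI : Etale W.hom := W.prop.2
    haveI : IsFinite φ := IsFinite.of_comp φ W.hom
    haveI : Etale φ := Etale.of_comp φ W.hom
    let L : FEt.Cat U.toScheme := MorphismProperty.Over.mk ⊤ (show pullback (A.hom ≫ pX) (B.hom ≫ pY) ⟶ U.toScheme from φ) ⟨inferInstance, inferInstance⟩
    obtain ⟨r, hr⟩ : Nonempty (FEt.fiberObj w₁ L) := by
      obtain ⟨a, -⟩ := (pullback.snd φ w₁).surjective default
      obtain ⟨r, -⟩ := FEtGalois.surjective_base ((FEt.restrict w₁).obj L) a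
      exact ⟨FEtGalois.restrictPtsEquiv w₁ L r⟩
    have hr' : r ≫ φ = w₁ := hr
    have hrn : r ≫ R.hom = ξ ≫ j := by
      show r ≫ n = _
      rw [show n = φ ≫ W.hom from hφ.symm, ← Category.assoc, hr']
      show w₁ ≫ U.ι ≫ Z'.hom = _
      rw [← Category.assoc, IsOpenImmersion.lift_fac]
      show (s.1 ≫ pullback.fst Z'.hom j) ≫ Z'.hom = _
      rw [Category.assoc, pullback.condition, ← Category.assoc]
      exact congrArg (· ≫ j) s.2
    let v : F.obj ((FEt.restrict j).obj R) := (ptsEquiv ξ j R).symm ⟨r, hrn⟩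
    have hv : F.map ((FEt.restrict j).map q) v = s := by
      apply (ptsEquiv ξ j Z').injective
      refine (ptsEquiv_natural ξ j q v).trans (Subtype.ext ?_)
      show (pullback.lift r ξ hrn ≫ pullback.fst R.hom j) ≫ φ ≫ U.ι = w
      rw [pullback.lift_fst, ← Category.assoc, hr', IsOpenImmersion.lift_fac]
    suffices hred : Φ R (τ • v) = τ • Φ R v by
      rw [← hv, GalExact.smul_map, hΦ, hΦ, GalExact.smul_map, hred]
    let p₁ : R ⟶ Pr.obj A := MorphismProperty.Over.homMk
      (pullback.lift (pullback.fst (A.hom ≫ pX) (B.hom ≫ pY)) n (pullback.lift_fst _ _ _).symm)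
      (pullback.lift_snd _ _ _) trivial
    let p₂ : R ⟶ (FEt.restrict (pullback.snd pX pY)).obj B := MorphismProperty.Over.homMk
      (pullback.lift (pullback.snd (A.hom ≫ pX) (B.hom ≫ pY)) n (pullback.lift_snd _ _ _).symm)
      (pullback.lift_snd _ _ _) trivial
    have hjy : j ≫ pullback.snd pX pY = pX ≫ y := pullback.lift_snd _ _ _
    have hjy' : j' ≫ pullback.snd pX pY = pX ≫ y' := pullback.lift_snd _ _ _
    have h1 : F.map ((FEt.restrict j').map p₁) (Φ R (τ • v)) = F.map ((FEt.restrict j').map p₁) (τ • Φ R v) := by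
      apply (c j' hj' A).injective
      rw [← hΦ, hfirst A, ← GalExact.smul_map, hcsmul j hj A, ← GalExact.smul_map, hcsmul j' hj' A]
      exact congrArg (τ • ·) ((hfirst A (F.map ((FEt.restrict j).map p₁) v)).symm.trans (congrArg (c j' hj' A) (hΦ p₁ v)))
    have h2 : F.map ((FEt.restrict j').map p₂) (Φ R (τ • v)) = F.map ((FEt.restrict j').map p₂) (τ • Φ R v) := by
      rw [← hΦ, ← GalExact.smul_map, ← GalExact.smul_map, hfix y j hjy, hfix y' j' hjy', hΦ]
    have e1 := congrArg (fun w => w.1 ≫ pullback.fst (Pr.obj A).hom j' ≫ pullback.fst A.hom (pullback.fst pX pY)) h1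
    have e2 := congrArg (fun w => w.1 ≫ pullback.fst ((FEt.restrict (pullback.snd pX pY)).obj B).hom j' ≫
      pullback.fst B.hom (pullback.snd pX pY)) h2
    have m1 : ∀ w : F.obj ((FEt.restrict j').obj R),
        (F.map ((FEt.restrict j').map p₁) w).1 ≫ pullback.fst (Pr.obj A).hom j' ≫ pullback.fst A.hom (pullback.fst pX pY) =
          (w.1 ≫ pullback.fst R.hom j') ≫ pullback.fst (A.hom ≫ pX) (B.hom ≫ pY) := fun w => by
      show (w.1 ≫ ((FEt.restrict j').map p₁).left) ≫ _ = _
      erw [Category.assoc, pullback.lift_fst_assoc]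
      simp only [Category.assoc]
      exact congrArg (fun z => w.1 ≫ pullback.fst R.hom j' ≫ z) (pullback.lift_fst _ _ _)
    have m2 : ∀ w : F.obj ((FEt.restrict j').obj R),
        (F.map ((FEt.restrict j').map p₂) w).1 ≫ pullback.fst ((FEt.restrict (pullback.snd pX pY)).obj B).hom j' ≫
          pullback.fst B.hom (pullback.snd pX pY) =
          (w.1 ≫ pullback.fst R.hom j') ≫ pullback.snd (A.hom ≫ pX) (B.hom ≫ pY) := fun w => by
      show (w.1 ≫ ((FEt.restrict j').map p₂).left) ≫ _ = _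
      erw [Category.assoc, pullback.lift_fst_assoc]
      simp only [Category.assoc]
      exact congrArg (fun z => w.1 ≫ pullback.fst R.hom j' ≫ z) (pullback.lift_fst _ _ _)
    refine Subtype.ext (pullback.hom_ext (pullback.hom_ext ?_ ?_) ?_)
    · exact ((m1 _).symm.trans e1).trans (m1 _)
    · exact ((m2 _).symm.trans e2).trans (m2 _)
    · exact (Φ R (τ • v)).2.trans (τ • Φ R v).2.symm
  have hbij : Function.Bijective (Φ Z') :=
    (T Z').bijective.comp (MulAction.bijective β⁻¹)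
  obtain ⟨e, -⟩ := GalExact.exists_iso F (Φ Z') hbij key
  exact ⟨e⟩

end Connected

end Groth.Agent.H18PBC.SteinEt
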