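import Groth.Agent.H18PBC.SteinEt.ConstFamily

/-!
# Constant families without connectedness of the parameterised factor
-/

set_option autoImplicit false
set_option linter.style.haveILetI false
set_option linter.unusedSectionVars false
set_option backward.isDefEq.respectTransparency false

noncomputable section

universe u

open CategoryTheory CategoryTheory.Limits AlgebraicGeometry TopologicalSpace

namespace Groth.Agent.H18PBC.SteinEt

/-- Isomorphisms over a disjoint open covering glue. -/
theorem nonempty_iso_of_disjoint {X : Scheme.{u}} (A B : FEt.Cat X) {ι : Type u} (C : ι → X.Opens)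
    (hcov : TopologicalSpace.IsOpenCover C) (hdis : ∀ i l, i ≠ l → Disjoint (C i : Set X) (C l))
    (e : ∀ i, Nonempty ((FEt.restrict (C i).ι).obj A ≅ (FEt.restrict (C i).ι).obj B)) : Nonempty (A ≅ B) := by
  choose e he using fun i => (⟨(e i).some, trivial⟩ : ∃ _ : (FEt.restrict (C i).ι).obj A ≅ (FEt.restrict (C i).ι).obj B, True)
  have mk : ∀ (A B : FEt.Cat X) (g : ∀ i, (FEt.restrict (C i).ι).obj A ⟶ (FEt.restrict (C i).ι).obj B),
      ∃ h : A ⟶ B, ∀ i, (pullback.fst A.hom (C i).ι) ≫ h.left = (g i).left ≫ pullback.fst B.hom (C i).ι := by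
    intro A B g
    let 𝒰 : A.left.OpenCover := (X.openCoverOfIsOpenCover C hcov).pullback₁ A.hom
    let φ : ∀ i : ι, pullback A.hom (C i).ι ⟶ B.left := fun i => (g i).left ≫ pullback.fst B.hom (C i).ι
    have hcompat : ∀ i l : ι, pullback.fst (pullback.fst A.hom (C i).ι) (pullback.fst A.hom (C l).ι) ≫ φ i =
        pullback.snd (pullback.fst A.hom (C i).ι) (pullback.fst A.hom (C l).ι) ≫ φ l := by
      intro i l
      by_cases h : i = l
      · subst h
        rw [show pullback.fst (pullback.fst A.hom (C i).ι) (pullback.fst A.hom (C i).ι) = pullback.snd _ _ from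
          fst_eq_snd_of_mono_eq _]
      · haveI : IsEmpty ↥(pullback (pullback.fst A.hom (C i).ι) (pullback.fst A.hom (C l).ι)) := ⟨fun p => by
          have h1 := congr($(pullback.condition (f := pullback.fst A.hom (C i).ι) (g := pullback.fst A.hom (C l).ι)) p)
          simp only [Scheme.Hom.comp_apply] at h1
          have h2 : ∀ (i : ι) (q : ↥(pullback A.hom (C i).ι)), A.hom (pullback.fst A.hom (C i).ι q) ∈ C i := fun i q => by
            rw [show A.hom (pullback.fst A.hom (C i).ι q) = (C i).ι (pullback.snd A.hom (C i).ι q) from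
              congr($(pullback.condition (f := A.hom) (g := (C i).ι)) q)]
            exact ((pullback.snd A.hom (C i).ι) q).2
          exact Set.disjoint_left.1 (hdis i l h) (h2 i _) (h1 ▸ h2 l _)⟩
        exact (isInitialOfIsEmpty).hom_ext _ _
    have hover : 𝒰.glueMorphisms φ hcompat ≫ B.hom = A.hom := by
      refine Scheme.Cover.hom_ext 𝒰 _ _ fun i => ?_
      rw [← Category.assoc, Scheme.Cover.ι_glueMorphisms]
      show ((g i).left ≫ pullback.fst B.hom (C i).ι) ≫ B.hom = pullback.fst A.hom (C i).ι ≫ A.hom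
      rw [Category.assoc, pullback.condition, pullback.condition, ← Category.assoc]
      exact congrArg (· ≫ (C i).ι) (MorphismProperty.Over.w (g i))
    exact ⟨MorphismProperty.Over.homMk (𝒰.glueMorphisms φ hcompat) hover trivial,
      fun i => Scheme.Cover.ι_glueMorphisms 𝒰 φ hcompat i⟩
  obtain ⟨h, hh⟩ := mk A B fun i => (e i).hom
  obtain ⟨h', hh'⟩ := mk B A fun i => (e i).inv
  have key : ∀ (A B : FEt.Cat X) (f : A ⟶ B) (g : B ⟶ A)
      (e : ∀ i, (FEt.restrict (C i).ι).obj A ≅ (FEt.restrict (C i).ι).obj B),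
      (∀ i, pullback.fst A.hom (C i).ι ≫ f.left = (e i).hom.left ≫ pullback.fst B.hom (C i).ι) →
      (∀ i, pullback.fst B.hom (C i).ι ≫ g.left = (e i).inv.left ≫ pullback.fst A.hom (C i).ι) → f ≫ g = 𝟙 A := by
    intro A B f g e hf hg
    refine MorphismProperty.Over.Hom.ext (Scheme.Cover.hom_ext ((X.openCoverOfIsOpenCover C hcov).pullback₁ A.hom) _ _ fun i => ?_)
    show pullback.fst A.hom (C i).ι ≫ f.left ≫ g.left = pullback.fst A.hom (C i).ι ≫ 𝟙 _
    rw [← Category.assoc, hf, Category.assoc, hg, ← Category.assoc, Category.comp_id]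
    exact (congrArg (· ≫ pullback.fst A.hom (C i).ι)
      (congrArg (fun k : (FEt.restrict (C i).ι).obj A ⟶ _ => k.left) (e i).hom_inv_id)).trans (Category.id_comp _)
  exact ⟨⟨h, h', key A B h h' e hh hh', key B A h' h (fun i => (e i).symm) hh' hh⟩⟩

open Pi1 in
/-- Constant families, in general. -/
theorem nonempty_iso_of_proper (k : Type u) [Field k] [IsAlgClosed k] {X Y : Scheme.{u}}
    (pX : X ⟶ Spec (CommRingCat.of k)) (pY : Y ⟶ Spec (CommRingCat.of k))
    [IsLocallyNoetherian X] [IsLocallyNoetherian Y] [ConnectedSpace Y] (hprop : IsProper pX ∨ IsProper pY)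
    (Z' : FEt.Cat (pullback pX pY))
    (y y' : Spec (CommRingCat.of k) ⟶ Y) (hy : 𝟙 X ≫ pX = (pX ≫ y) ≫ pY) (hy' : 𝟙 X ≫ pX = (pX ≫ y') ≫ pY) :
    Nonempty ((FEt.restrict (pullback.lift (𝟙 X) (pX ≫ y) hy)).obj Z' ≅
      (FEt.restrict (pullback.lift (𝟙 X) (pX ≫ y') hy')).obj Z') := by
  haveI := locallyConnectedSpace X
  let C : _root_.ConnectedComponents ↥X → X.Opens := fun c =>
    ⟨connectedComponent c.out, isOpen_connectedComponent⟩
  have hcov : TopologicalSpace.IsOpenCover C := by
    refine TopologicalSpace.Opens.ext (Set.eq_univ_of_forall fun x => ?_)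
    rw [TopologicalSpace.Opens.coe_iSup, Set.mem_iUnion]
    refine ⟨_root_.ConnectedComponents.mk x, ?_⟩
    show x ∈ connectedComponent (_root_.ConnectedComponents.mk x).out
    rw [_root_.ConnectedComponents.coe_eq_coe.1 (Quotient.out_eq (_root_.ConnectedComponents.mk x))]
    exact mem_connectedComponent
  refine nonempty_iso_of_disjoint _ _ C hcov (fun c d hcd => ?_) fun c => ?_
  · refine connectedComponent_disjoint fun h => hcd ?_
    rw [← Quotient.out_eq c, ← Quotient.out_eq d]
    exact _root_.ConnectedComponents.coe_eq_coe.2 h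
  let XC := (C c).toScheme
  let pC : XC ⟶ Spec (CommRingCat.of k) := (C c).ι ≫ pX
  haveI : ConnectedSpace ↥XC := Subtype.connectedSpace isConnected_connectedComponent
  haveI : IsLocallyNoetherian XC := LocallyOfFiniteType.isLocallyNoetherian (C c).ι
  haveI : GeometricallyConnected pC := H22Alg.VarGeom.geometricallyConnected_of_isSepClosed pC
  haveI : GeometricallyConnected pY := H22Alg.VarGeom.geometricallyConnected_of_isSepClosed pY
  haveI : IsClosedImmersion (C c).ι := IsClosedImmersion.of_isPreimmersion _ (by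
    rw [Scheme.Opens.range_ι]; exact isClosed_connectedComponent)
  let m : pullback pC pY ⟶ pullback pX pY := pullback.map pC pY pX pY (C c).ι (𝟙 Y) (𝟙 _) (by simp [pC]) (by simp)
  have hyC : 𝟙 XC ≫ pC = (pC ≫ y) ≫ pY := by
    have := congrArg ((C c).ι ≫ ·) hy
    simpa [pC] using this
  have hyC' : 𝟙 XC ≫ pC = (pC ≫ y') ≫ pY := by
    have := congrArg ((C c).ι ≫ ·) hy'
    simpa [pC] using this
  obtain ⟨e⟩ : Nonempty ((FEt.restrict (pullback.lift (𝟙 XC) (pC ≫ y) hyC)).obj ((FEt.restrict m).obj Z') ≅
      (FEt.restrict (pullback.lift (𝟙 XC) (pC ≫ y') hyC')).obj ((FEt.restrict m).obj Z')) := by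
    rcases hprop with hX | hY
    · haveI : IsProper pC := inferInstanceAs (IsProper ((C c).ι ≫ pX))
      haveI : IsLocallyNoetherian (pullback pC pY) := LocallyOfFiniteType.isLocallyNoetherian (pullback.snd pC pY)
      haveI : GeometricallyConnected (pullback.snd pC pY) := MorphismProperty.pullback_snd _ _ inferInstance
      haveI : IsProper (pullback.snd pC pY) := MorphismProperty.pullback_snd _ _ inferInstance
      haveI : ConnectedSpace ↥(pullback pC pY) :=
        GeometricallyConnected.connectedSpace (pullback.snd pC pY) (pullback.snd pC pY).isOpenMap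
      haveI := locallyConnectedSpace (pullback pC pY)
      exact nonempty_iso_of_dominated pC pY (fun Z => by
        haveI : IsFinite Z.hom := Z.prop.1
        haveI : IsLocallyNoetherian ((Functor.fromPUnit.{0} (pullback pC pY)).obj Z.right) := ‹IsLocallyNoetherian (pullback pC pY)›
        haveI : IsLocallyNoetherian Z.left := LocallyOfFiniteType.isLocallyNoetherian Z.hom
        exact locallyConnectedSpace Z.left) (dominated_left pC pY) _ y y' hyC hyC'
    · haveI : IsLocallyNoetherian (pullback pC pY) := LocallyOfFiniteType.isLocallyNoetherian (pullback.fst pC pY)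
      haveI : GeometricallyConnected (pullback.fst pC pY) := MorphismProperty.pullback_fst _ _ inferInstance
      haveI : ConnectedSpace ↥(pullback pC pY) :=
        GeometricallyConnected.connectedSpace (pullback.fst pC pY) (pullback.fst pC pY).isOpenMap
      haveI := locallyConnectedSpace (pullback pC pY)
      exact nonempty_iso_of_dominated pC pY (fun Z => by
        haveI : IsFinite Z.hom := Z.prop.1
        haveI : IsLocallyNoetherian ((Functor.fromPUnit.{0} (pullback pC pY)).obj Z.right) := ‹IsLocallyNoetherian (pullback pC pY)›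
        haveI : IsLocallyNoetherian Z.left := LocallyOfFiniteType.isLocallyNoetherian Z.hom
        exact locallyConnectedSpace Z.left) (dominated_right pC pY) _ y y' hyC hyC'
  have h1 : pullback.lift (𝟙 XC) (pC ≫ y) hyC ≫ m = (C c).ι ≫ pullback.lift (𝟙 X) (pX ≫ y) hy := by
    apply pullback.hom_ext <;> simp [m, pC]
    exact Category.id_comp _
  have h2 : pullback.lift (𝟙 XC) (pC ≫ y') hyC' ≫ m = (C c).ι ≫ pullback.lift (𝟙 X) (pX ≫ y') hy' := by
    apply pullback.hom_ext <;> simp [m, pC]
    exact Category.id_comp _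
  exact ⟨H18Et.FEtLimit.restrictCompIso _ _ _ rfl Z' ≪≫ (H18Et.FEtLimit.restrictCompIso _ _ _ h1 Z').symm ≪≫ e ≪≫
    H18Et.FEtLimit.restrictCompIso _ _ _ h2 Z' ≪≫ (H18Et.FEtLimit.restrictCompIso _ _ _ rfl Z').symm⟩

end Groth.Agent.H18PBC.SteinEt
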