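import Groth.Agent.H18PBC.SteinEt.Local
import Groth.Agent.H7Flat.GeomReducedConstructible
import Mathlib.RingTheory.Flat.Localization
import Mathlib.RingTheory.Kaehler.TensorProduct

/-!
# Functions form a finite étale algebra when the fibres are geometrically reduced
-/

set_option autoImplicit false
set_option linter.style.haveILetI false
set_option linter.unusedSectionVars false
set_option backward.isDefEq.respectTransparency false

noncomputable section

universe u

open CategoryTheory CategoryTheory.Limits AlgebraicGeometry Opposite TopologicalSpace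
open scoped TensorProduct KaehlerDifferential

namespace Groth.Agent.H18PBC.SteinEt

theorem formallyUnramified_of_fibres (R B : Type u) [CommRing R] [CommRing B] [Algebra R B] [Module.Finite R B]
    (h : ∀ (p : Ideal R) [p.IsPrime], Algebra.FormallyUnramified p.ResidueField (p.ResidueField ⊗[R] B)) :
    Algebra.FormallyUnramified R B := by
  haveI : Module.Finite R Ω[B⁄R] := Module.Finite.trans B _
  refine ⟨(Module.support_eq_empty_iff (R := R)).1 (Set.eq_empty_of_forall_notMem fun p hp => ?_)⟩
  rw [Module.mem_support_iff_nontrivial_residueField_tensorProduct] at hp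
  haveI := h p.asIdeal
  letI : Algebra B (p.asIdeal.ResidueField ⊗[R] B) := Algebra.TensorProduct.rightAlgebra
  exact not_subsingleton (p.asIdeal.ResidueField ⊗[R] Ω[B⁄R])
    ((KaehlerDifferential.tensorKaehlerEquivBase R p.asIdeal.ResidueField B
      (p.asIdeal.ResidueField ⊗[R] B)).toEquiv.subsingleton)

theorem etale_of_fibres (R B : Type u) [CommRing R] [CommRing B] [Algebra R B] [Module.Finite R B]
    [Algebra.FinitePresentation R B] [Module.Flat R B]
    (h : ∀ (p : Ideal R) [p.IsPrime], Algebra.FormallyUnramified p.ResidueField (p.ResidueField ⊗[R] B)) :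
    Algebra.Etale R B :=
  haveI := formallyUnramified_of_fibres R B h
  Algebra.Etale.of_formallyUnramified_of_flat

/-- A pushout of functions as an isomorphism of algebras. -/
theorem nonempty_algEquiv {A A' : Type u} [CommRing A] [CommRing A'] [Algebra A A'] {X X' : Scheme.{u}}
    {π : X ⟶ Spec (CommRingCat.of A)} {π' : X' ⟶ Spec (CommRingCat.of A')} {q : X' ⟶ X}
    (H : IsPushout (CommRingCat.ofHom (algebraMap A A')) (CommRingCat.ofHom (gR π)) (CommRingCat.ofHom (gR π'))
      q.appTop) :
    letI := (gR π).toAlgebra; letI := (gR π').toAlgebra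
    Nonempty (A' ⊗[A] Γ(X, ⊤) ≃ₐ[A'] Γ(X', ⊤)) := by
  letI := (gR π).toAlgebra
  letI := (gR π').toAlgebra
  let e := ((CommRingCat.isPushout_tensorProduct A A' Γ(X, ⊤)).isoIsPushout _ _ H).commRingCatIsoToRingEquiv
  refine ⟨AlgEquiv.ofRingEquiv (f := e) fun c => ?_⟩
  exact congr($((CommRingCat.isPushout_tensorProduct A A' Γ(X, ⊤)).inl_isoIsPushout_hom _ _ H) c)

theorem grAt_of_geometricallyReduced {X S : Scheme.{u}} (f : X ⟶ S) (y : S)
    (h : GeometricallyReduced (f.fiberToSpecResidueField y)) : GRAt f y := fun K _ _ σ hσ =>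
  (H7Flat.GeomReduced.geometricallyReduced_fiber_iff f y).1 h K σ (hσ _)

theorem geometricallyReduced_of_grAt {X S : Scheme.{u}} (f : X ⟶ S) (y : S) (h : GRAt f y) :
    GeometricallyReduced (f.fiberToSpecResidueField y) := by
  rw [H7Flat.GeomReduced.geometricallyReduced_fiber_iff]
  intro K _ a ha
  let L := AlgebraicClosure K
  let j : Spec (CommRingCat.of L) ⟶ Spec (CommRingCat.of K) := Spec.map (CommRingCat.ofHom (algebraMap K L))
  haveI : Subsingleton ↥(Spec (CommRingCat.of K)) := inferInstanceAs (Subsingleton (PrimeSpectrum K))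
  haveI : Surjective j := ⟨fun x => ⟨IsLocalRing.closedPoint L, Subsingleton.elim _ _⟩⟩
  haveI : Flat j := Flat.SpecMap_iff.2 (RingHom.flat_algebraMap_iff.2 inferInstance)
  haveI := h L (j ≫ a) fun z => by rw [Scheme.Hom.comp_apply, Subsingleton.elim (j z) (IsLocalRing.closedPoint K), ha]
  haveI : Surjective (pullback.fst (pullback.snd f a) j) := MorphismProperty.pullback_fst _ _ ‹_›
  haveI : Flat (pullback.fst (pullback.snd f a) j) := MorphismProperty.pullback_fst _ _ ‹_›
  haveI : QuasiCompact (pullback.fst (pullback.snd f a) j) := MorphismProperty.pullback_fst _ _ inferInstance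
  exact H8Props.GeometricDescent.descends_isReduced (pullback.fst (pullback.snd f a) j)
    (isReduced_of_isOpenImmersion (pullbackLeftPullbackSndIso f a j).hom)

/-- The functions of a base change of a proper flat scheme over a Noetherian ring form a finite étale
algebra, if the fibres over the image are geometrically reduced. -/
theorem finite_etale_functions {A R : Type u} [CommRing A] [IsNoetherianRing A] [CommRing R] [Algebra A R]
    {X X' : Scheme.{u}} (π : X ⟶ Spec (CommRingCat.of A)) [IsProper π] [Flat π]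
    {π' : X' ⟶ Spec (CommRingCat.of R)} {q : X' ⟶ X}
    (h : IsPullback q π' π (Spec.map (CommRingCat.ofHom (algebraMap A R))))
    (hgr : ∀ z : ↥(Spec (CommRingCat.of R)), GRAt π ((Spec.map (CommRingCat.ofHom (algebraMap A R))) z)) :
    letI := (gR π').toAlgebra
    Module.Finite R Γ(X', ⊤) ∧ Algebra.Etale R Γ(X', ⊤) := by
  letI := (gR π).toAlgebra
  letI := (gR π').toAlgebra
  haveI : Module.Finite A Γ(X, ⊤) := finite_globalFunctions π
  haveI : Algebra.FinitePresentation A Γ(X, ⊤) := Algebra.FinitePresentation.of_finiteType.1 inferInstance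
  obtain ⟨ψ⟩ := nonempty_algEquiv (isPushout_of_epiOn h fun z => exists_epiOn π _ (hgr z))
  haveI : Module.Finite R (R ⊗[A] Γ(X, ⊤)) := inferInstance
  haveI hflat : Module.Flat R (R ⊗[A] Γ(X, ⊤)) := by
    refine Module.flat_of_localized_maximal _ fun P hP => ?_
    let Rq := Localization.AtPrime P
    let p : Ideal A := P.comap (algebraMap A R)
    let Ap := Localization.AtPrime p
    letI : Algebra Ap Rq := (Localization.localRingHom p P (algebraMap A R) rfl).toAlgebra
    haveI : IsScalarTower A Ap Rq := .of_algebraMap_eq fun a => by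
      rw [RingHom.algebraMap_toAlgebra, Localization.localRingHom_to_map, ← IsScalarTower.algebraMap_apply]
    haveI : Module.Free Ap (Ap ⊗[A] Γ(X, ⊤)) := by
      haveI : IsNoetherianRing Ap := IsLocalization.isNoetherianRing p.primeCompl Ap inferInstance
      let gS : Spec (CommRingCat.of Ap) ⟶ Spec (CommRingCat.of A) := Spec.map (CommRingCat.ofHom (algebraMap A Ap))
      let X₁ := pullback π gS
      letI : X₁.Over (Spec (CommRingCat.of Ap)) := ⟨pullback.snd π gS⟩
      have hsq : IsPullback (pullback.fst π gS) (X₁ ↘ Spec (CommRingCat.of Ap)) π gS := IsPullback.of_hasPullback _ _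
      haveI : IsProper (X₁ ↘ Spec (CommRingCat.of Ap)) := MorphismProperty.of_isPullback hsq ‹IsProper π›
      haveI : Flat (X₁ ↘ Spec (CommRingCat.of Ap)) := MorphismProperty.of_isPullback (P := @Flat) hsq ‹Flat π›
      have hy : gS (IsLocalRing.closedPoint Ap) =
          (Spec.map (CommRingCat.ofHom (algebraMap A R))) (⟨P, hP.isPrime⟩ : PrimeSpectrum R) :=
        PrimeSpectrum.ext (IsLocalization.AtPrime.comap_maximalIdeal Ap p)
      haveI : Algebra.Etale ((Spec (CommRingCat.of Ap)).residueField (IsLocalRing.closedPoint Ap))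
          Γ((X₁ ↘ Spec (CommRingCat.of Ap)).fiber (IsLocalRing.closedPoint Ap), ⊤) :=
        etale_fibreFunctions _ _ fun L _ _ σ hσ =>
          (GRAt.of_isPullback hsq (y := IsLocalRing.closedPoint Ap) (by rw [hy]; exact hgr _)) L σ hσ
      letI := (gR (X₁ ↘ Spec (CommRingCat.of Ap))).toAlgebra
      haveI := free_functions Ap X₁ (IsLocalRing.closedPoint Ap) rfl
      obtain ⟨e⟩ := nonempty_algEquiv (isPushout_of_flat (π := π) (π' := X₁ ↘ Spec (CommRingCat.of Ap))
        (RingHom.flat_algebraMap_iff.2 (IsLocalization.flat Ap p.primeCompl)) hsq)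
      exact Module.Free.of_equiv e.toLinearEquiv.symm
    haveI : Module.Flat Rq (Rq ⊗[Ap] (Ap ⊗[A] Γ(X, ⊤))) := inferInstance
    haveI : Module.Flat Rq (Rq ⊗[A] Γ(X, ⊤)) :=
      Module.Flat.of_linearEquiv (TensorProduct.AlgebraTensorModule.cancelBaseChange A Ap Rq Rq Γ(X, ⊤)).symm
    haveI : Module.Flat Rq (Rq ⊗[R] (R ⊗[A] Γ(X, ⊤))) :=
      Module.Flat.of_linearEquiv (TensorProduct.AlgebraTensorModule.cancelBaseChange A R Rq Rq Γ(X, ⊤))
    haveI : Module.Flat R Rq := IsLocalization.flat Rq P.primeCompl
    haveI : Module.Flat R (Rq ⊗[R] (R ⊗[A] Γ(X, ⊤))) := Module.Flat.trans R Rq _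
    exact Module.Flat.of_linearEquiv
      ((LocalizedModule.equivTensorProduct P.primeCompl (R ⊗[A] Γ(X, ⊤))).restrictScalars R)
  haveI : Algebra.Etale R (R ⊗[A] Γ(X, ⊤)) := by
    refine etale_of_fibres R _ fun P hP => ?_
    let κ := P.ResidueField
    let t : Spec (CommRingCat.of κ) ⟶ Spec (CommRingCat.of A) := Spec.map (CommRingCat.ofHom (algebraMap A κ))
    have ht : ∀ z, t z = (Spec.map (CommRingCat.ofHom (algebraMap A R))) (⟨P, hP⟩ : PrimeSpectrum R) := fun z => by
      refine PrimeSpectrum.ext ?_
      show z.asIdeal.comap (algebraMap A κ) = P.comap (algebraMap A R)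
      rw [Ideal.eq_bot_of_prime z.asIdeal, IsScalarTower.algebraMap_eq A R κ, ← Ideal.comap_comap,
        ← RingHom.ker_eq_comap_bot, Ideal.ker_algebraMap_residueField]
    letI := (gR (pullback.snd π t)).toAlgebra
    haveI : Algebra.Etale κ Γ(pullback π t, ⊤) :=
      etale_globalFunctions (pullback.snd π t) fun L _ _ σ => by
        haveI := hgr _ L (σ ≫ t) fun z => (Scheme.Hom.comp_apply _ _ _).trans (ht (σ z))
        exact isReduced_of_isOpenImmersion (pullbackLeftPullbackSndIso π t σ).hom
    obtain ⟨e⟩ := nonempty_algEquiv (isPushout_of_epiOn (IsPullback.of_hasPullback π t) fun z =>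
      exists_epiOn π _ ((ht z).symm ▸ hgr _))
    exact Algebra.FormallyUnramified.of_equiv
      (e.symm.trans (Algebra.TensorProduct.cancelBaseChange A R κ κ Γ(X, ⊤)).symm)
  exact ⟨Module.Finite.equiv ψ.toLinearEquiv, Algebra.Etale.of_equiv ψ⟩

end Groth.Agent.H18PBC.SteinEt
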