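import Groth.Agent.H18PBC.SteinEt.Main
import Groth.Agent.H18PBC.Specialization
import Groth.Agent.H8Props.Stein.Basic
import Groth.Agent.LeadBC.GeomConn
import Mathlib.AlgebraicGeometry.Morphisms.FlatRank

/-!
# Middle exactness of the homotopy sequence
-/

set_option autoImplicit false
set_option linter.style.haveILetI false
set_option backward.isDefEq.respectTransparency false

noncomputable section

universe u

open CategoryTheory CategoryTheory.Limits AlgebraicGeometry TopologicalSpace

namespace Groth.Agent.H18PBC.SteinEt

/-- A finite étale map to a connected scheme which pulls back to an isomorphism somewhere is an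
isomorphism. -/
theorem isIso_of_pullback_isIso {Y P Z : Scheme.{u}} [PreconnectedSpace ↥P] (φ : Y ⟶ P) [IsFinite φ] [Etale φ]
    (ζ : Z ⟶ P) (z : Z) [IsIso (pullback.snd φ ζ)] : IsIso φ := by
  have h1 : (pullback.snd φ ζ).finrank z = φ.finrank (ζ z) := Scheme.Hom.finrank_pullback_snd φ ζ z
  rw [Scheme.Hom.finrank_eq_one_of_isIso] at h1
  rw [Scheme.Hom.isIso_iff_finrank_eq]
  funext p
  rw [φ.isLocallyConstant_finrank.apply_eq_of_isPreconnected isPreconnected_univ (Set.mem_univ p) (Set.mem_univ (ζ z)), ← h1]
  rfl

/-- A connected finite étale cover with a section is trivial. -/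
theorem isIso_of_section {C Z : Scheme.{u}} [PreconnectedSpace ↥C] [Nonempty ↥Z] (π : C ⟶ Z) [IsFinite π]
    [Etale π] (s : Z ⟶ C) (h : s ≫ π = 𝟙 Z) : IsIso π := by
  haveI : IsClosedImmersion (s ≫ π) := by rw [h]; infer_instance
  haveI : IsClosedImmersion s := IsClosedImmersion.of_comp s π
  haveI : Etale (s ≫ π) := by rw [h]; infer_instance
  haveI : Etale s := Etale.of_comp s π
  have hr : IsClopen (Set.range s) := ⟨s.isClosedEmbedding.isClosed_range, s.isOpenMap.isOpen_range⟩
  haveI : IsOpenImmersion s := IsOpenImmersion.of_flat_of_mono s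
  haveI : Surjective s := ⟨Set.range_eq_univ.1 (hr.eq_univ (Set.range_nonempty _))⟩
  haveI : IsIso s := (isIso_iff_isOpenImmersion_and_surjective s).2 ⟨inferInstance, inferInstance⟩
  haveI : IsIso (s ≫ π) := by rw [h]; infer_instance
  exact IsIso.of_isIso_comp_left s π

open Pi1 in
theorem essImage_restrict_of_section {X S : Scheme.{u}} (f : X ⟶ S) [IsProper f] [Flat f]
    [LocallyOfFinitePresentation f]
    (hfib : ∀ (Ω : Type u) [Field Ω] [IsAlgClosed Ω] (s : Spec (CommRingCat.of Ω) ⟶ S),
      ConnectedSpace ↥(pullback f s) ∧ IsReduced (pullback f s))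
    (Y : FEt.Cat X) [ConnectedSpace Y.left] (Ω : Type u) [Field Ω] [IsAlgClosed Ω]
    (s : Spec (CommRingCat.of Ω) ⟶ S) (σ : pullback f s ⟶ Y.left)
    (hσ : σ ≫ Y.hom = pullback.fst f s) :
    (FEt.restrict f).essImage Y := by
  haveI : IsFinite Y.hom := Y.prop.1
  haveI : Etale Y.hom := Y.prop.2
  haveI := Spec.geometricallyConnected_of_geomFibres f fun L _ _ t => (hfib L t).1
  haveI := Spec.geometricallyReduced_of_geomFibres f fun L _ _ t => (hfib L t).2
  haveI := Spec.geometricallyReduced_comp_etale Y.hom f
  let g := Y.hom ≫ f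
  haveI : IsProper g := inferInstanceAs (IsProper (_ ≫ _))
  haveI : Flat g := inferInstanceAs (Flat (_ ≫ _))
  haveI : LocallyOfFinitePresentation g := inferInstanceAs (LocallyOfFinitePresentation (_ ≫ _))
  haveI : GeometricallyReduced g := inferInstanceAs (GeometricallyReduced (_ ≫ _))
  obtain ⟨hfin, het⟩ := isFinite_etale_fromNormalization g fun y K _ _ t _ =>
    GeometricallyReduced.geometrically_isReduced _ _ _ (IsPullback.of_hasPullback g t)
  haveI := hfin
  haveI := het
  let T : FEt.Cat S := MorphismProperty.Over.mk ⊤ g.fromNormalization ⟨hfin, het⟩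
  let P := pullback g.fromNormalization f
  let φ : Y.left ⟶ P := pullback.lift g.toNormalization Y.hom g.toNormalization_fromNormalization
  have hφ₁ : φ ≫ pullback.fst g.fromNormalization f = g.toNormalization := pullback.lift_fst _ _ _
  have hφ₂ : φ ≫ pullback.snd g.fromNormalization f = Y.hom := pullback.lift_snd _ _ _
  -- `P` is connected
  haveI := H8Props.Stein.geometricallyConnected_toNormalization g
  haveI := H8Props.Stein.isProper_toNormalization g
  haveI := H8Props.Stein.surjective_toNormalization g
  haveI : ConnectedSpace ↥g.normalization :=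
    haveI : ConnectedSpace ↥((𝟭 Scheme.{u}).obj Y.left) := ‹ConnectedSpace ↥Y.left›
    g.toNormalization.surjective.connectedSpace g.toNormalization.continuous
  let p := pullback.fst g.fromNormalization f
  haveI : GeometricallyConnected p := MorphismProperty.pullback_fst _ _ ‹_›
  haveI : IsProper p := MorphismProperty.pullback_fst _ _ ‹_›
  haveI : Surjective p := Spec.surjective_of_connected p
  haveI : PreconnectedSpace ↥P := preconnectedSpace_iff_clopen.2 fun W hW => by
    obtain ⟨V, hV, rfl⟩ := Spec.exists_clopen_preimage _ p.isClosedMap p.surjective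
      (fun b => Spec.preconnected_fibre p b) W hW
    rcases isClopen_iff.1 hV with rfl | rfl
    · exact Or.inl Set.preimage_empty
    · exact Or.inr Set.preimage_univ
  -- the section gives a point of the Stein factor over the geometric point
  let Z := pullback f s
  haveI : ConnectedSpace ↥Z := (hfib Ω s).1
  haveI : IsReduced Z := (hfib Ω s).2
  haveI : IsProper (pullback.snd f s) := MorphismProperty.pullback_snd _ _ ‹_›
  haveI : IsIso (pullback.snd f s).appTop := LeadBC.GeomConn.isIso_appTop_of_algClosed _
  haveI : IsFinite (pullback.snd g.fromNormalization s) := MorphismProperty.pullback_snd _ _ ‹_›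
  haveI : IsAffine (pullback g.fromNormalization s) := isAffine_of_isAffineHom (pullback.snd g.fromNormalization s)
  have hτ : (σ ≫ g.toNormalization) ≫ g.fromNormalization = pullback.snd f s ≫ s := by
    rw [Category.assoc, g.toNormalization_fromNormalization, ← Category.assoc, hσ]
    exact pullback.condition
  obtain ⟨t₀, ht₀⟩ := H8Props.Stein.exists_factor_of_isIso_appTop (pullback.snd f s)
    (pullback.lift _ _ hτ)
  have ht₁ : t₀ ≫ pullback.snd g.fromNormalization s = 𝟙 _ :=
    H8Props.Stein.ext_of_isIso_appTop (pullback.snd f s) (by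
      rw [← Category.assoc, ht₀, pullback.lift_snd, Category.comp_id])
  let t := t₀ ≫ pullback.fst g.fromNormalization s
  have ht : t ≫ g.fromNormalization = s := by
    rw [Category.assoc, pullback.condition, ← Category.assoc, ht₁, Category.id_comp]
  let ζ : Z ⟶ P := pullback.lift (pullback.snd f s ≫ t) (pullback.fst f s) (by
    rw [Category.assoc, ht]; exact pullback.condition.symm)
  have hsq : IsPullback ζ (pullback.snd f s) p t := by
    refine IsPullback.of_right ?_ (pullback.lift_fst _ _ _) (IsPullback.of_hasPullback g.fromNormalization f).flip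
    rw [ht, show ζ ≫ pullback.snd g.fromNormalization f = pullback.fst f s from pullback.lift_snd _ _ _]
    exact IsPullback.of_hasPullback f s
  have hC := (IsPullback.of_hasPullback φ ζ).paste_vert hsq
  rw [hφ₁] at hC
  haveI : ConnectedSpace ↥(pullback φ ζ) := GeometricallyConnected.geometrically_connectedSpace _ _ _ hC
  haveI : IsFinite (φ ≫ pullback.snd g.fromNormalization f) := by rw [hφ₂]; infer_instance
  haveI : Etale (φ ≫ pullback.snd g.fromNormalization f) := by rw [hφ₂]; infer_instance
  haveI : IsFinite φ := IsFinite.of_comp φ (pullback.snd g.fromNormalization f)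
  haveI : Etale φ := Etale.of_comp φ (pullback.snd g.fromNormalization f)
  have hsec : σ ≫ φ = ζ := by
    refine pullback.hom_ext ?_ ?_
    · rw [Category.assoc, hφ₁, pullback.lift_fst]
      exact (pullback.lift_fst _ _ hτ).symm.trans ((congrArg (· ≫ pullback.fst g.fromNormalization s) ht₀).symm.trans (Category.assoc _ _ _))
    · rw [Category.assoc, hφ₂, pullback.lift_snd]
      exact hσ
  haveI : IsFinite (pullback.snd φ ζ) := MorphismProperty.pullback_snd _ _ ‹_›
  haveI : Etale (pullback.snd φ ζ) := MorphismProperty.pullback_snd _ _ ‹_›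
  haveI : IsIso (pullback.snd φ ζ) := isIso_of_section (pullback.snd φ ζ)
    (pullback.lift σ (𝟙 _) (by rw [Category.id_comp]; exact hsec)) (pullback.lift_snd _ _ _)
  haveI : IsIso φ := isIso_of_pullback_isIso φ ζ (Classical.arbitrary Z)
  exact ⟨T, ⟨MorphismProperty.Over.isoMk (asIso φ).symm (by
    rw [Iso.symm_hom, asIso_inv, IsIso.inv_comp_eq]
    exact hφ₂.symm)⟩⟩

end Groth.Agent.H18PBC.SteinEt
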