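import Groth.Agent.S1297
import Groth.Agent.H19Grp.AntiAffine
import Groth.Agent.H3CAlg.FiniteAlg
import Groth.Prelude.Def_ega3
import Mathlib.RingTheory.Etale.Descent

/-!
# Functions on a proper geometrically reduced scheme over a field form an étale algebra
-/

set_option autoImplicit false
set_option linter.style.haveILetI false
set_option backward.isDefEq.respectTransparency false

universe u

open CategoryTheory CategoryTheory.Limits AlgebraicGeometry
open scoped TensorProduct

namespace Groth.Agent.H18PBC.SteinEt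

/-- Functions over an affine open of the base form a finite algebra, for a proper morphism to a
locally Noetherian scheme. -/
theorem finite_sections {X S : Scheme.{u}} (f : X ⟶ S) [IsProper f] [IsLocallyNoetherian S] {U : S.Opens}
    (hU : IsAffineOpen U) :
    letI := (f.app U).hom.toAlgebra
    Module.Finite Γ(S, U) Γ(X, f ⁻¹ᵁ U) := by
  letI := (f.app U).hom.toAlgebra
  have hcoh : Coh.IsCoh ((Coh.push f).obj (Coh.structureModule X)) :=
    H10Coh.isCoh_push_of_finH f _ (H10Coh.isCoh_structureModule' X) fun W hW => by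
      haveI : IsNoetherianRing Γ(S, W) := IsLocallyNoetherian.component_noetherian ⟨W, hW⟩
      rw [H10Coh.preΓ_eq_toΓ f hW]
      exact H10Coh.finH_proper _ _ (H10Coh.isCoh_restrict _ _ (H10Coh.isCoh_structureModule' X)) 0
  haveI : ((Coh.push f).obj (Coh.structureModule X)).IsQuasicoherent := hcoh.1
  exact (H10Coh.isCoh_iff_finite_sections _).1 hcoh |>.2 U hU

/-- Global functions over an affine base form a finite algebra. -/
theorem finite_globalFunctions {R : Type u} [CommRing R] [IsNoetherianRing R] {X : Scheme.{u}}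
    (π : X ⟶ Spec (CommRingCat.of R)) [IsProper π] :
    letI := (π.appTop.hom.comp (Scheme.ΓSpecIso (CommRingCat.of R)).inv.hom).toAlgebra
    Module.Finite R Γ(X, ⊤) := by
  letI := (π.appTop.hom.comp (Scheme.ΓSpecIso (CommRingCat.of R)).inv.hom).toAlgebra
  refine RingHom.finite_algebraMap.1 ?_
  refine RingHom.Finite.comp ?_ (RingHom.Finite.of_surjective _
    (Scheme.ΓSpecIso (CommRingCat.of R)).symm.commRingCatIsoToRingEquiv.surjective)
  exact finite_sections π (isAffineOpen_top _)

/-- For a proper geometrically reduced scheme over a field, the functions form an étale algebra. -/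
theorem etale_globalFunctions {k : Type u} [Field k] {Y : Scheme.{u}}
    (π : Y ⟶ Spec (CommRingCat.of k)) [IsProper π]
    (hred : ∀ (K : Type u) [Field K] [IsAlgClosed K] (t : Spec (CommRingCat.of K) ⟶ Spec (CommRingCat.of k)),
      IsReduced (pullback π t)) :
    letI := (π.appTop.hom.comp (Scheme.ΓSpecIso (CommRingCat.of k)).inv.hom).toAlgebra
    Algebra.Etale k Γ(Y, ⊤) := by
  letI := (π.appTop.hom.comp (Scheme.ΓSpecIso (CommRingCat.of k)).inv.hom).toAlgebra
  haveI := finite_globalFunctions π
  let K := AlgebraicClosure k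
  let t : Spec (CommRingCat.of K) ⟶ Spec (CommRingCat.of k) := Spec.map (CommRingCat.ofHom (algebraMap k K))
  haveI : Flat t := Flat.SpecMap_iff.2 (RingHom.flat_algebraMap_iff.2 inferInstance)
  haveI : CompactSpace ↥Y := QuasiCompact.compactSpace_of_compactSpace π
  haveI : QuasiSeparatedSpace ↥Y := quasiSeparatedSpace_of_quasiSeparated π
  haveI := hred K t
  have hp := H19Grp.AntiAffine.isPushout_of_flat_affine (H := (IsPullback.of_hasPullback π t).flip)
  have hp' : IsPushout (CommRingCat.ofHom (algebraMap k K)) (CommRingCat.ofHom (algebraMap k Γ(Y, ⊤)))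
      ((Scheme.ΓSpecIso (CommRingCat.of K)).inv ≫ (pullback.snd π t).appTop) (pullback.fst π t).appTop := by
    refine hp.of_iso (Scheme.ΓSpecIso (CommRingCat.of k)) (Scheme.ΓSpecIso (CommRingCat.of K)) (Iso.refl _)
      (Iso.refl _) (Scheme.ΓSpecIso_naturality _) ?_ ?_ ?_
    · show π.appTop ≫ 𝟙 _ = (Scheme.ΓSpecIso (CommRingCat.of k)).hom ≫
        (Scheme.ΓSpecIso (CommRingCat.of k)).inv ≫ π.appTop
      rw [Iso.hom_inv_id_assoc, Category.comp_id]
    · simp
    · simp
  let e := ((CommRingCat.isPushout_tensorProduct k K Γ(Y, ⊤)).isoIsPushout _ _ hp').commRingCatIsoToRingEquiv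
  haveI : IsReduced (K ⊗[k] Γ(Y, ⊤)) := isReduced_of_injective e.toRingHom e.injective
  haveI : Module.Finite K (K ⊗[k] Γ(Y, ⊤)) := inferInstance
  haveI : Algebra.FormallyEtale K (K ⊗[k] Γ(Y, ⊤)) :=
    H3CAlg.formallyEtale_of_finite_isReduced K _
  haveI : Algebra.FinitePresentation K (K ⊗[k] Γ(Y, ⊤)) :=
    Algebra.FinitePresentation.of_finiteType.1 inferInstance
  haveI : Algebra.Etale K (K ⊗[k] Γ(Y, ⊤)) := ⟨inferInstance, inferInstance⟩
  exact Algebra.Etale.of_etale_tensorProduct_of_faithfullyFlat (R := k) (T := K)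

/-- The fibre version. -/
theorem etale_fibreFunctions {X S : Scheme.{u}} (f : X ⟶ S) [IsProper f] (s : S)
    (hred : ∀ (K : Type u) [Field K] [IsAlgClosed K] (σ : Spec (CommRingCat.of K) ⟶ S),
      (∀ z, σ z = s) → IsReduced (pullback f σ)) :
    Algebra.Etale (S.residueField s) Γ(f.fiber s, ⊤) := by
  haveI : IsProper (f.fiberToSpecResidueField s) := MorphismProperty.pullback_snd _ _ ‹_›
  refine etale_globalFunctions (k := S.residueField s) (f.fiberToSpecResidueField s) fun K _ _ t => ?_
  haveI := hred K (t ≫ S.fromSpecResidueField s) fun z => by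
    exact (Scheme.Hom.comp_apply _ _ _).trans (Scheme.fromSpecResidueField_apply _ _)
  exact isReduced_of_isOpenImmersion (pullbackLeftPullbackSndIso f (S.fromSpecResidueField s) t).hom

end Groth.Agent.H18PBC.SteinEt
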