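import Groth.Agent.H18PBC.SteinEt.FieldEtale
import Groth.Agent.H18PBC.SteinEt.BaseChange
import Groth.Agent.LeadBC.EtaleFree

/-!
# Cohomological flatness in degree zero at a point with geometrically reduced fibre
-/

set_option autoImplicit false
set_option linter.style.haveILetI false
set_option linter.unusedSectionVars false
set_option backward.isDefEq.respectTransparency false

noncomputable section

universe u

open CategoryTheory CategoryTheory.Limits AlgebraicGeometry Opposite TopologicalSpace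
open scoped TensorProduct

namespace Groth.Agent.H18PBC.SteinEt

open Groth.Agent.LeadFF Groth.Agent.LeadBC Groth.Agent.LeadBC.GenBC

attribute [local instance 10000] H10Coh.hasSheafifyAb H10Coh.hasWeakSheafifyAb H10Coh.hasExtAb H10Coh.enoughInjAb

/-- The geometric fibres over the point `y` are reduced. -/
def GRAt {X S : Scheme.{u}} (f : X ⟶ S) (y : S) : Prop :=
  ∀ (K : Type u) [Field K] [IsAlgClosed K] (σ : Spec (CommRingCat.of K) ⟶ S),
    (∀ z, σ z = y) → IsReduced (pullback f σ)

theorem GRAt.of_isPullback {X S X' S' : Scheme.{u}} {f : X ⟶ S} {g : S' ⟶ S} {g' : X' ⟶ X} {f' : X' ⟶ S'}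
    (h : IsPullback g' f' f g) {y : S'} (hy : GRAt f (g y)) : GRAt f' y := by
  intro K _ _ σ hσ
  haveI := hy K (σ ≫ g) fun z => by rw [Scheme.Hom.comp_apply, hσ]
  exact isReduced_of_isOpenImmersion ((IsPullback.of_hasPullback f' σ).paste_horiz h).isoPullback.hom

/-- The functions as an algebra over the base ring. -/
abbrev gR {R : Type u} [CommRing R] {X : Scheme.{u}} (π : X ⟶ Spec (CommRingCat.of R)) : R →+* Γ(X, ⊤) :=
  π.appTop.hom.comp (Scheme.ΓSpecIso (CommRingCat.of R)).inv.hom

section Squares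

variable {A A' : Type u} [CommRing A] [CommRing A'] {X X' : Scheme.{u}} {π : X ⟶ Spec (CommRingCat.of A)}
  {π' : X' ⟶ Spec (CommRingCat.of A')} {ρ : A →+* A'} {q : X' ⟶ X}

/-- Translate a pushout of global functions to one over the rings. -/
theorem isPushout_gR_of_appTop
    (H : IsPushout (Spec.map (CommRingCat.ofHom ρ)).appTop π.appTop π'.appTop q.appTop) :
    IsPushout (CommRingCat.ofHom ρ) (CommRingCat.ofHom (gR π)) (CommRingCat.ofHom (gR π')) q.appTop := by
  refine H.of_iso (Scheme.ΓSpecIso (CommRingCat.of A)) (Scheme.ΓSpecIso (CommRingCat.of A')) (Iso.refl _)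
    (Iso.refl _) (Scheme.ΓSpecIso_naturality _) ?_ ?_ ?_
  · show π.appTop ≫ 𝟙 _ = (Scheme.ΓSpecIso (CommRingCat.of A)).hom ≫
      (Scheme.ΓSpecIso (CommRingCat.of A)).inv ≫ π.appTop
    rw [Iso.hom_inv_id_assoc, Category.comp_id]
  · show π'.appTop ≫ 𝟙 _ = (Scheme.ΓSpecIso (CommRingCat.of A')).hom ≫
      (Scheme.ΓSpecIso (CommRingCat.of A')).inv ≫ π'.appTop
    rw [Iso.hom_inv_id_assoc, Category.comp_id]
  · simp

theorem isPushout_of_flat [QuasiCompact π] [QuasiSeparated π] (hρ : ρ.Flat)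
    (h : IsPullback q π' π (Spec.map (CommRingCat.ofHom ρ))) :
    IsPushout (CommRingCat.ofHom ρ) (CommRingCat.ofHom (gR π)) (CommRingCat.ofHom (gR π')) q.appTop := by
  haveI : Flat (Spec.map (CommRingCat.ofHom ρ)) := Flat.SpecMap_iff.2 hρ
  haveI : CompactSpace ↥X := QuasiCompact.compactSpace_of_compactSpace π
  haveI : QuasiSeparatedSpace ↥X := quasiSeparatedSpace_of_quasiSeparated π
  exact isPushout_gR_of_appTop (H19Grp.AntiAffine.isPushout_of_flat_affine (H := h.flip))

theorem isPushout_of_epiOn [IsProper π] [Flat π] [LocallyOfFinitePresentation π]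
    (h : IsPullback q π' π (Spec.map (CommRingCat.ofHom ρ)))
    (hT : ∀ z : ↥(Spec (CommRingCat.of A')), ∃ (W : (Spec (CommRingCat.of A)).Opens) (hW : IsAffineOpen W),
      (Spec.map (CommRingCat.ofHom ρ)) z ∈ W ∧ EpiOn π (Coh.structureModule X) hW 0) :
    IsPushout (CommRingCat.ofHom ρ) (CommRingCat.ofHom (gR π)) (CommRingCat.ofHom (gR π')) q.appTop := by
  have H := isPushout_sections π h hT (isAffineOpen_top _) (isAffineOpen_top _) (fun _ _ => trivial)
  refine isPushout_gR_of_appTop ?_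
  simp only [Scheme.Hom.appTop, Scheme.Hom.app_eq_appLE] at H ⊢
  exact H

end Squares

section Closed

variable (K : Type u) [CommRing K] [IsNoetherianRing K] [IsLocalRing K] (X : Scheme.{u})
  [X.Over (Spec (CommRingCat.of K))] [IsProper (X ↘ Spec (CommRingCat.of K))]
  [Flat (X ↘ Spec (CommRingCat.of K))]

/-- Functions surject onto those of the closed fibre when these form an étale algebra. -/
theorem surjective_closedFibre (y : ↥(Spec (CommRingCat.of K))) (hy : y.asIdeal = IsLocalRing.maximalIdeal K)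
    [Algebra.Etale ((Spec (CommRingCat.of K)).residueField y) Γ((X ↘ Spec (CommRingCat.of K)).fiber y, ⊤)] :
    Function.Surjective ((X ↘ Spec (CommRingCat.of K)).fiberι y).appTop := by
  intro σ
  let ι := (X ↘ Spec (CommRingCat.of K)).fiberι y
  let m := IsLocalRing.maximalIdeal K
  obtain ⟨t, ht⟩ := Et.exists_lift y hy 0 σ
  let φ : ModuleCat.of K K ⟶ Et.QI (m ^ (0 + 1)) := ModuleCat.ofHom (Submodule.mkQ (m ^ (0 + 1)))
  have hsurj := Et.surjective_gs_of_preservesEpi K X (Et.preserves_zero K X y hy).2 φ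
    ((ModuleCat.epi_iff_surjective _).2 (Submodule.mkQ_surjective _))
  obtain ⟨u, hu⟩ := hsurj t
  haveI : IsIso (uMap K (Coh.structureModule X) (ModuleCat.of K K) (1 : K)) :=
    isIso_uMap_one K (Coh.structureModule X)
  haveI : IsIso ((uMap K (Coh.structureModule X) (ModuleCat.of K K) (1 : K)).app ⊤) := inferInstance
  obtain ⟨s, hs⟩ := (app_bijective_of_isIso (uMap K (Coh.structureModule X) (ModuleCat.of K K) (1 : K)) ⊤).2 u
  have hq : Et.qv X (m ^ (0 + 1)) ⊤ (show Γ(X, ⊤) from s) = t := by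
    refine Eq.trans ?_ hu
    show (uMap K (Coh.structureModule X) _ _).app ⊤ s = ((CohIII.tensorAFunctor K _).map φ).app ⊤ u
    rw [← hs]
    exact congr($(congrArg (fun k => Scheme.Modules.Hom.app k ⊤)
      (uMap_natural K (Coh.structureModule X) φ (1 : K)).symm) s)
  refine ⟨(show Γ(X, ⊤) from s), ?_⟩
  refine ((X ↘ Spec (CommRingCat.of K)).fiber y).sheaf.eq_of_locally_eq'
    (fun V : {V : X.Opens // IsAffineOpen V} => ι ⁻¹ᵁ V.1) ⊤ (fun _ => homOfLE le_top) ?_ _ _ fun V => ?_
  · intro x _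
    obtain ⟨V, hV, hxV, -⟩ := exists_isAffineOpen_mem_and_subset (U := (⊤ : X.Opens)) (x := ι x) trivial
    exact Opens.mem_iSup.2 ⟨⟨V, hV⟩, hxV⟩
  obtain ⟨r, hr1, hr2⟩ := ht V.1 V.2
  refine ((congr($(ι.naturality (homOfLE (le_top : V.1 ≤ ⊤)).op) (show Γ(X, ⊤) from s))).symm.trans ?_).trans hr2
  refine sub_eq_zero.1 ((map_sub (ι.app V.1).hom _ r).symm.trans ?_)
  refine (Et.fiber_ker y hy V.2 _).2 ?_
  refine Ideal.map_mono (Ideal.pow_le_self (Nat.succ_ne_zero 0) : m ^ (0 + 1) ≤ m) ?_
  refine (Et.qv_eq_zero_iff (m ^ (0 + 1)) V.2 _).1 ?_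
  refine (map_sub ((Et.qMap X (m ^ (0 + 1))).app V.1).hom _ _).trans (sub_eq_zero.2 ?_)
  exact ((Et.qv_res (m ^ (0 + 1)) le_top _).symm.trans (congrArg _ hq)).trans hr1

/-- Global functions are free over the local base. -/
theorem free_functions (y : ↥(Spec (CommRingCat.of K))) (hy : y.asIdeal = IsLocalRing.maximalIdeal K)
    [Algebra.Etale ((Spec (CommRingCat.of K)).residueField y) Γ((X ↘ Spec (CommRingCat.of K)).fiber y, ⊤)] :
    letI := (gR (X ↘ Spec (CommRingCat.of K))).toAlgebra
    Module.Free K Γ(X, ⊤) := by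
  letI := (gR (X ↘ Spec (CommRingCat.of K))).toAlgebra
  haveI := Et.free_globalSections K X y hy
  let e : ((CohIII.globalSectionsA K).obj (Coh.structureModule X)) ≃ₗ[K] Γ(X, ⊤) :=
    { toFun := fun x => x
      invFun := fun x => x
      left_inv := fun _ => rfl
      right_inv := fun _ => rfl
      map_add' := fun _ _ => rfl
      map_smul' := fun r x => by
        refine (gsA_smul (R := CommRingCat.of K) (X ↘ Spec (CommRingCat.of K)) (Coh.structureModule X) r x).trans ?_
        rw [scG_top]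
        rfl }
  exact Module.Free.of_equiv e

end Closed

section Point

variable {A : Type u} [CommRing A] [IsNoetherianRing A] {X : Scheme.{u}} (π : X ⟶ Spec (CommRingCat.of A))
  [IsProper π] [Flat π]

/-- Near a point with geometrically reduced fibre the functor of functions is right exact. -/
theorem exists_epiOn (y : ↥(Spec (CommRingCat.of A))) (hy : GRAt π y) :
    ∃ (W : (Spec (CommRingCat.of A)).Opens) (hW : IsAffineOpen W), y ∈ W ∧
      EpiOn π (Coh.structureModule X) hW 0 := by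
  haveI : IsLocallyNoetherian (Spec (CommRingCat.of A)) := inferInstance
  let p := y.asIdeal
  let K := Localization.AtPrime p
  haveI : IsNoetherianRing K := IsLocalization.isNoetherianRing p.primeCompl K inferInstance
  let gS : Spec (CommRingCat.of K) ⟶ Spec (CommRingCat.of A) := Spec.map (CommRingCat.ofHom (algebraMap A K))
  let X₁ := pullback π gS
  letI : X₁.Over (Spec (CommRingCat.of K)) := ⟨pullback.snd π gS⟩
  have hsq : IsPullback (pullback.fst π gS) (X₁ ↘ Spec (CommRingCat.of K)) π gS := IsPullback.of_hasPullback _ _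
  haveI : IsProper (X₁ ↘ Spec (CommRingCat.of K)) := MorphismProperty.of_isPullback hsq ‹IsProper π›
  haveI : Flat (X₁ ↘ Spec (CommRingCat.of K)) := MorphismProperty.of_isPullback (P := @Flat) hsq ‹Flat π›
  let y₀ : ↥(Spec (CommRingCat.of K)) := IsLocalRing.closedPoint K
  have hgy : gS y₀ = y := PrimeSpectrum.ext (IsLocalization.AtPrime.comap_maximalIdeal K p)
  haveI : Algebra.Etale ((Spec (CommRingCat.of K)).residueField y₀) Γ((X₁ ↘ Spec (CommRingCat.of K)).fiber y₀, ⊤) :=
    etale_fibreFunctions _ y₀ fun L _ _ σ hσ =>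
      (GRAt.of_isPullback hsq (y := y₀) (by rw [hgy]; exact hy)) L σ hσ
  have hsurj := surjective_closedFibre K X₁ y₀ rfl
  have hPO := isPushout_of_flat (π := π) (π' := X₁ ↘ Spec (CommRingCat.of K))
    (RingHom.flat_algebraMap_iff.2 (IsLocalization.flat K p.primeCompl)) hsq
  letI := (gR π).toAlgebra
  let ψ := ((CommRingCat.isPushout_tensorProduct A K Γ(X, ⊤)).isoIsPushout _ _ hPO).commRingCatIsoToRingEquiv
  let κ := (Spec (CommRingCat.of K)).residueField y₀
  let t : Spec κ ⟶ Spec (CommRingCat.of A) := (Spec (CommRingCat.of K)).fromSpecResidueField y₀ ≫ gS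
  let π₀ := (X₁ ↘ Spec (CommRingCat.of K)).fiberToSpecResidueField y₀
  let t' := (X₁ ↘ Spec (CommRingCat.of K)).fiberι y₀ ≫ pullback.fst π gS
  have hsq' : IsPullback t' π₀ π t := (IsPullback.of_hasPullback _ _).paste_horiz hsq
  have hg : ∀ z, t z = y := fun z => by
    rw [← hgy]
    exact (Scheme.Hom.comp_apply _ _ _).trans (congrArg gS (Scheme.fromSpecResidueField_apply y₀ z))
  refine exists_epiOn_of_surjective π (K := κ) hsq' y hg (isAffineOpen_top _) (fun _ _ => trivial) fun σ => ?_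
  obtain ⟨z, rfl⟩ := hsurj σ
  obtain ⟨w, rfl⟩ := ψ.surjective z
  induction w using TensorProduct.induction_on with
  | zero => rw [map_zero, map_zero]; exact zero_mem _
  | add a b ha hb => rw [map_add, map_add]; exact add_mem ha hb
  | tmul c b =>
    refine AddSubmonoid.subset_closure
      ⟨(((Spec (CommRingCat.of K)).fromSpecResidueField y₀).appTop ((Scheme.ΓSpecIso (CommRingCat.of K)).inv c), b), ?_⟩
    have hψ : ψ (c ⊗ₜ[A] b) = gR (X₁ ↘ Spec (CommRingCat.of K)) c * (pullback.fst π gS).appTop b := by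
      have h1 : c ⊗ₜ[A] b = (c ⊗ₜ[A] (1 : Γ(X, ⊤))) * ((1 : K) ⊗ₜ[A] b) := by
        rw [Algebra.TensorProduct.tmul_mul_tmul, mul_one, one_mul]
      rw [h1, map_mul]
      exact congrArg₂ (· * ·)
        congr($((CommRingCat.isPushout_tensorProduct A K Γ(X, ⊤)).inl_isoIsPushout_hom _ _ hPO) c)
        congr($((CommRingCat.isPushout_tensorProduct A K Γ(X, ⊤)).inr_isoIsPushout_hom _ _ hPO) b)
    refine Eq.trans ?_ ((congrArg ((X₁ ↘ Spec (CommRingCat.of K)).fiberι y₀).appTop hψ).trans (map_mul _ _ _)).symm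
    refine congrArg₂ (α := Γ((X₁ ↘ Spec (CommRingCat.of K)).fiber y₀, ⊤)) (· * ·) ?_ ?_
    · exact congr($(congrArg Scheme.Hom.appTop ((X₁ ↘ Spec (CommRingCat.of K)).fiber_fac y₀).symm)
        ((Scheme.ΓSpecIso (CommRingCat.of K)).inv c))
    · simp only [Scheme.Hom.appTop, Scheme.Hom.app_eq_appLE]
      exact (congr($(Scheme.Hom.appLE_comp_appLE ((X₁ ↘ Spec (CommRingCat.of K)).fiberι y₀) (pullback.fst π gS)
        ⊤ ⊤ ⊤ le_top le_top) b)).symm

end Point

end Groth.Agent.H18PBC.SteinEt
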